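import Cfsg.Agent.Lib.Fusion.PPowerIndex.Build
import Cfsg.Prelude.Def_FusionReduction

/-!
# Subsystems of `p`-power index and residual limits
-/

set_option autoImplicit false

namespace CfsgLib.Fusion.PPowerIndex

open Cfsg Cfsg.FusionSystem CfsgLib.Fusion

universe u

variable {Ω : Type u} [Group Ω] {S T U : Subgroup Ω} {F : Cfsg.FusionSystem S} {p : ℕ}

/-- The maps of `F` inside `T ≤ S`. -/
def restrictTo (F : Cfsg.FusionSystem S) (T : Subgroup Ω) (hTS : T ≤ S) : Cfsg.FusionSystem T where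
  Hom P := {φ | φ ∈ F.Hom P ∧ P ≤ T ∧ ∀ x : P, φ x ∈ T}
  le_of_mem h := ⟨h.2.1, h.2.2⟩
  injective_of_mem h := F.injective_of_mem h.1
  conj_mem := by
    intro P g hP hg
    exact ⟨F.conj_mem (hP.trans hTS) (hTS hg), hP,
      fun x => T.mul_mem (T.mul_mem hg (hP x.2)) (T.inv_mem hg)⟩
  comp_mem := by
    rintro P Q φ ψ ⟨hφ, hP, -⟩ ⟨hψ, -, hv⟩ h
    exact ⟨F.comp_mem hφ hψ h, hP, fun x => hv _⟩
  inv_mem := by
    rintro P φ ⟨hφ, hP, hv⟩
    obtain ⟨ψ, hψ, hinv⟩ := F.inv_mem hφ
    refine ⟨ψ, ⟨hψ, ?_, ?_⟩, hinv⟩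
    · rintro _ ⟨x, rfl⟩
      exact hv x
    · rintro ⟨_, x, rfl⟩
      rw [hinv]
      exact hP x.2

/-- A saturated subsystem over `T` lies in any subsystem of `p`-power index over a group containing
`T`. -/
theorem le_of_hasPPowerIndexIn [Finite S] [Fact p.Prime] (hS : IsPGroup p S)
    {E : Cfsg.FusionSystem T} (hTS : T ≤ S) (hE : E.IsSaturated p) (hEF : E.IsSubsystemOf F)
    {F₀ : Cfsg.FusionSystem U} (hTU : T ≤ U) (hF₀ : F₀.HasPPowerIndexIn F p) :
    E.IsSubsystemOf F₀ := by
  have : Finite T := finite_of_le hTS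
  intro P φ hφ
  refine (le_of_residual (hS.to_le hTS) hTS hE hEF (restrictTo F₀ T hTU) (fun Q hQ => ?_) P hφ).1
  rintro α hα
  have h1 := hF₀.2.2 Q (hQ.trans hTU) hα
  exact (mem_autGroup_iff_hom hQ).2
    ⟨(mem_autGroup_iff_hom (hQ.trans hTU)).1 h1, hQ, fun x => hQ (α x).2⟩

/-- A saturated subsystem of `p`-power index has the same hyperfocal subgroup. -/
theorem hyperfocal_eq_of_pPowerIndex [Finite S] [hp : Fact p.Prime] (hS : IsPGroup p S)
    (hF : F.IsSaturated p) {E : Cfsg.FusionSystem T} (hTS : T ≤ S)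
    (hE : E.HasPPowerIndexIn F p) : E.hyperfocalSubgroup p = F.hyperfocalSubgroup p := by
  classical
  refine le_antisymm (hyperfocal_mono hE.1 hTS) ((Subgroup.closure_le _).2 ?_)
  rintro _ ⟨P, α, x, hP, hα, rfl⟩
  have : Finite P := finite_of_le hP
  have : Finite T := finite_of_le hTS
  -- the automorphisms moving `P` inside `hyp(E)`
  set K := E.hyperfocalSubgroup p with hKdef
  suffices hgen : ∀ β : F.autGroup P, Nat.Coprime (orderOf β) p →
      ∀ y : P, (y : Ω)⁻¹ * ((β : MulAut P) y : P) ∈ K by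
    have hclos : ∀ y : P, (y : Ω)⁻¹ * ((α : MulAut P) y : P) ∈ K := by
      induction hα using Subgroup.closure_induction'' with
      | one => intro y; simp [K.one_mem]
      | mem β hβ => exact hgen β hβ
      | inv_mem β hβ => exact hgen β⁻¹ (by rw [orderOf_inv]; exact hβ)
      | mul β γ _ _ hb hc =>
        intro y
        have h := K.mul_mem (hc y) (hb ((γ : MulAut P) y))
        simpa [mul_assoc] using h
    exact hclos x
  intro β hβ y
  set z : Ω := (y : Ω)⁻¹ * ((β : MulAut P) y : P) with hz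
  have hzP : z ∈ P := P.mul_mem (P.inv_mem y.2) ((β : MulAut P) y).2
  have hzT : z ∈ T := hE.2.1 (mem_hyperfocal_of_pResidual hP
    (CfsgLib.Transfer.mem_pResidual_of_coprime hβ) y)
  -- `β` restricts to `R`
  set R := P ⊓ F.hyperfocalSubgroup p with hR
  have hzR : z ∈ R := ⟨hzP, mem_hyperfocal_of_pResidual hP
    (CfsgLib.Transfer.mem_pResidual_of_coprime hβ) y⟩
  have hsc := stronglyClosed_hyperfocal (F := F) hS hF
  have hβR : ∀ (r : P), (r : Ω) ∈ R → (((β : MulAut P) r : P) : Ω) ∈ R := fun r hr =>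
    ⟨((β : MulAut P) r).2, stronglyClosed_apply_mem hsc ((mem_autGroup_iff_hom hP).1 β.2) r hr.2⟩
  have hRP : R ≤ P := inf_le_left
  have hRT : R ≤ T := inf_le_right.trans hE.2.1
  have hRS : R ≤ S := hRT.trans hTS
  have : Finite R := finite_of_le hRS
  have : Finite (MulAut R) := finite_mulAut
  -- restriction as a homomorphism
  let St : Subgroup (F.autGroup P) :=
    { carrier := {γ | ∀ r : P, (r : Ω) ∈ R ↔ (((γ : MulAut P) r : P) : Ω) ∈ R}
      one_mem' := fun r => Iff.rfl
      mul_mem' := fun {a b} ha hb r => (hb r).trans (ha ((b : MulAut P) r))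
      inv_mem' := fun {a} ha r => by
        have := (ha ((a⁻¹ : MulAut P) r)).symm
        simpa using this }
  have hall : ∀ γ : F.autGroup P, γ ∈ St := fun γ r => by
    have key : ∀ (γ : F.autGroup P) (r : P), (r : Ω) ∈ R → (((γ : MulAut P) r : P) : Ω) ∈ R :=
      fun γ r hr => ⟨((γ : MulAut P) r).2,
        stronglyClosed_apply_mem hsc ((mem_autGroup_iff_hom hP).1 γ.2) r hr.2⟩
    refine ⟨key γ r, fun h => ?_⟩
    simpa using key γ⁻¹ ((γ : MulAut P) r) h
  let res : F.autGroup P →* MulAut R := MonoidHom.mk'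
    (fun γ =>
      { toFun := fun r => ⟨((γ : MulAut P) ⟨r, hRP r.2⟩ : P), ((hall γ) ⟨r, hRP r.2⟩).1 r.2⟩
        invFun := fun r => ⟨((γ⁻¹ : F.autGroup P) : MulAut P) ⟨r, hRP r.2⟩,
          ((hall γ⁻¹) ⟨r, hRP r.2⟩).1 r.2⟩
        left_inv := fun r => Subtype.ext (by simp)
        right_inv := fun r => Subtype.ext (by simp)
        map_mul' := fun a b => Subtype.ext (by
          show (((γ : MulAut P) (⟨a, hRP a.2⟩ * ⟨b, hRP b.2⟩) : P) : Ω) = _
          rw [map_mul]; rfl) })
    fun γ δ => MulEquiv.ext fun r => Subtype.ext rfl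
  have hresF : res β ∈ F.autGroup R :=
    (mem_autGroup_iff_hom hRS).2 (mem_of_restrict ((mem_autGroup_iff_hom hP).1 β.2) hRP _
      fun r => rfl)
  have hresE : res β ∈ E.autGroup R := hE.2.2 R hRT ⟨⟨res β, hresF⟩,
    CfsgLib.Transfer.mem_pResidual_of_coprime (by
      rw [← Subgroup.orderOf_coe]
      exact hβ.coprime_dvd_left (orderOf_map_dvd res β)), rfl⟩
  have hmove : ∀ r : R, (r : Ω)⁻¹ * ((res β r : R) : Ω) ∈ K := fun r =>
    mem_hyperfocal_of_pResidual hRT (α := ⟨res β, hresE⟩)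
      (CfsgLib.Transfer.mem_pResidual_of_coprime (by
        rw [← Subgroup.orderOf_coe]
        exact hβ.coprime_dvd_left (orderOf_map_dvd res β))) r
  -- modulo `K` the element `z` is fixed, so a power prime to `p` lies in `K`
  set N := K.subgroupOf T with hN
  have : N.Normal := ⟨fun n hn t => hyperfocalSubgroup_conj_mem E p t.2 hn⟩
  let π := QuotientGroup.mk' N
  have hpow : ∀ n : ℕ, ∃ w : T, π w = π ⟨z, hzT⟩ ^ n ∧
      ((((β : MulAut P) ^ n) y : P) : Ω) = (y : Ω) * w := by
    intro n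
    induction n with
    | zero => exact ⟨1, by simp, by simp⟩
    | succ n ih =>
      obtain ⟨w, hw, hwy⟩ := ih
      have hwR : (w : Ω) ∈ R := by
        have e : (w : Ω) = (y : Ω)⁻¹ * ((((β : MulAut P) ^ n) y : P) : Ω) := by simp [hwy]
        refine ⟨e ▸ P.mul_mem (P.inv_mem y.2) (((β : MulAut P) ^ n) y).2, ?_⟩
        rw [e]
        exact mem_hyperfocal_of_pResidual hP (α := β ^ n) (pow_mem
          (CfsgLib.Transfer.mem_pResidual_of_coprime hβ) n) y
      refine ⟨⟨z, hzT⟩ * ⟨_, hRT (res β ⟨w, hwR⟩).2⟩, ?_, ?_⟩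
      · rw [pow_succ', map_mul, ← hw]
        refine congrArg _ (QuotientGroup.eq.2 ?_).symm
        exact hmove ⟨w, hwR⟩
      · rw [pow_succ', MulAut.mul_apply,
          show ((β : MulAut P) ^ n) y = y * ⟨w, hRP hwR⟩ from Subtype.ext hwy, map_mul]
        show (((β : MulAut P) y : P) : Ω) * ((res β ⟨w, hwR⟩ : R) : Ω) = (y : Ω) * (z * _)
        rw [hz, ← mul_assoc, mul_inv_cancel_left]
  obtain ⟨w, hw, hwy⟩ := hpow (orderOf β)
  rw [← SubmonoidClass.coe_pow, pow_orderOf_eq_one] at hwy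
  have hw1 : w = 1 := Subtype.ext (by simpa using hwy)
  rw [hw1, map_one] at hw
  have h1 : orderOf (π ⟨z, hzT⟩) ∣ orderOf β := orderOf_dvd_of_pow_eq_one hw.symm
  obtain ⟨k, hk⟩ := (hS.to_le hTS).to_quotient N (π ⟨z, hzT⟩)
  have h2 : orderOf (π ⟨z, hzT⟩) = 1 := Nat.eq_one_of_dvd_coprimes (hβ.pow_right k) h1
    (orderOf_dvd_of_pow_eq_one hk)
  exact (QuotientGroup.eq_one_iff (⟨z, hzT⟩ : T)).1 (orderOf_eq_one_iff.1 h2)

/-- Two systems are the same if they are over the same group and have the same maps. -/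
def SameMaps (E : Cfsg.FusionSystem T) (E' : Cfsg.FusionSystem U) : Prop :=
  T = U ∧ ∀ P, E.Hom P = E'.Hom P

theorem eq_of_hom {E E' : Cfsg.FusionSystem S} (h : ∀ P, E.Hom P = E'.Hom P) : E = E' := by
  cases E
  cases E'
  obtain rfl : _ = _ := funext h
  rfl

/-- Residual limits do not see the difference between systems with the same maps. -/
theorem SameMaps.isResidualLimitOf {E : Cfsg.FusionSystem T} {E' : Cfsg.FusionSystem U}
    (h : SameMaps E E') {V : Subgroup Ω} {L : Cfsg.FusionSystem V}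
    (hL : L.IsResidualLimitOf E p) : L.IsResidualLimitOf E' p := by
  obtain ⟨rfl, h⟩ := h
  exact eq_of_hom h ▸ hL

theorem pPrimeResidual_unique {F E E' : Cfsg.FusionSystem S} (h : F.IsPPrimeResidual p E)
    (h' : F.IsPPrimeResidual p E') : E = E' :=
  eq_of_hom fun P => subset_antisymm (h.2.2 E' h'.1 h'.2.1 P) (h'.2.2 E h.1 h.2.1 P)

theorem pResidual_same [Finite S] [Fact p.Prime] (hS : IsPGroup p S)
    (hH : F.hyperfocalSubgroup p = T) {D : Cfsg.FusionSystem (F.hyperfocalSubgroup p)}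
    (hD : F.IsPResidual p D) {E : Cfsg.FusionSystem T} (hTS : T ≤ S) (hE : E.IsSaturated p)
    (hEF : E.HasPPowerIndexIn F p) : SameMaps D E := by
  subst hH
  have : Finite (F.hyperfocalSubgroup p) := finite_of_le hTS
  exact ⟨rfl, fun P => congrArg (fun D => D.Hom P)
    (eq_of_pPowerIndex (hS.to_le hTS) hTS hD.1 hD.2 hE hEF)⟩

theorem hasPPowerIndexIn_self (hF : F.hyperfocalSubgroup p ≤ S) :
    F.HasPPowerIndexIn F p :=
  ⟨fun _ => subset_rfl, hF, fun _ _ => Subgroup.map_subtype_le _⟩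

theorem sameMaps_pPrimeResidual {D D' : Cfsg.FusionSystem S} {E : Cfsg.FusionSystem T}
    (h : SameMaps D E) (hD : D.IsPPrimeResidual p D') (hE : E.IsPPrimeResidual p E) :
    SameMaps D' E := by
  obtain ⟨rfl, h⟩ := h
  obtain rfl := eq_of_hom h
  exact ⟨rfl, fun P => congrArg (fun X => X.Hom P) (pPrimeResidual_unique hD hE)⟩

/-- A residual limit of a saturated system is unique. -/
theorem residualLimit_unique {L : Cfsg.FusionSystem T} (h : L.IsResidualLimitOf F p) :
    Finite S → Fact p.Prime → IsPGroup p S → F.IsSaturated p →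
      ∀ {U : Subgroup Ω} {L' : Cfsg.FusionSystem U}, L'.IsResidualLimitOf F p → SameMaps L L' := by
  induction h with
  | stable F p hhyp hres =>
    intro hfin hp hS hF U L' h'
    suffices key : ∀ {S' : Subgroup Ω} {F' : Cfsg.FusionSystem S'} {U : Subgroup Ω}
        {L' : Cfsg.FusionSystem U}, L'.IsResidualLimitOf F' p → SameMaps F' F → SameMaps L' F by
      obtain ⟨h1, h2⟩ := key h' ⟨rfl, fun _ => rfl⟩
      exact ⟨h1.symm, fun P => (h2 P).symm⟩
    clear h'
    intro S' F' U L' h'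
    induction h' with
    | stable F' p _ _ => exact fun h => h
    | step F' p D D' hD hD' _ ih =>
      intro hsame
      obtain ⟨rfl, hsame⟩ := hsame
      obtain rfl := eq_of_hom hsame
      exact ih hhyp hres hp hS hF (sameMaps_pPrimeResidual
        (pResidual_same hS hhyp hD le_rfl hF (hasPPowerIndexIn_self hhyp.le)) hD' hres)
  | step F p D D' hD hD' hL ih =>
    intro hfin hp hS hF U L' h'
    have hle := hyperfocalSubgroup_le_S F p
    have hfin' : Finite (F.hyperfocalSubgroup p) := finite_of_le hle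
    have hH : IsPGroup p (F.hyperfocalSubgroup p) := hS.to_le hle
    cases h' with
    | stable _ _ hhyp hres =>
      refine ih hfin' hp hH hD'.1 ?_
      have h1 : SameMaps D' F := sameMaps_pPrimeResidual
        (pResidual_same hS hhyp hD le_rfl hF (hasPPowerIndexIn_self hhyp.le)) hD' hres
      exact SameMaps.isResidualLimitOf ⟨h1.1.symm, fun P => (h1.2 P).symm⟩ (.stable F p hhyp hres)
    | step _ _ D₁ D₁' hD₁ hD₁' hL' =>
      obtain rfl := eq_of_hom (pResidual_same hS rfl hD hle hD₁.1 hD₁.2).2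
      obtain rfl := pPrimeResidual_unique hD' hD₁'
      exact ih hfin' hp hH hD'.1 hL'

/-- A normal subsystem of `p`-power index has the same residual limits. -/
theorem residualLimit_eq_of_pPowerIndex [Finite S] [Fact p.Prime] (hS : IsPGroup p S)
    (hF : F.IsSaturated p) {E : Cfsg.FusionSystem T} (hTS : T ≤ S) (hE : E.IsSaturated p)
    (hEF : E.HasPPowerIndexIn F p) {V W : Subgroup Ω} {L : Cfsg.FusionSystem V}
    (hL : L.IsResidualLimitOf F p) {L' : Cfsg.FusionSystem W} (hL' : L'.IsResidualLimitOf E p) :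
    SameMaps L L' := by
  have hfinT : Finite T := finite_of_le hTS
  have hhyp := hyperfocal_eq_of_pPowerIndex hS hF hTS hEF
  have hT : IsPGroup p T := hS.to_le hTS
  refine residualLimit_unique hL inferInstance inferInstance hS hF ?_
  -- `L'` is a limit of `F`
  cases hL with
  | stable _ _ hFh hres =>
    obtain rfl : T = S := le_antisymm hTS (hFh.ge.trans hEF.2.1)
    obtain rfl := eq_of_pPowerIndex hT le_rfl hE hEF hF (hasPPowerIndexIn_self hFh.le)
    exact hL'
  | step _ _ D D' hD hD' hstep =>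
    cases hL' with
    | stable _ _ hEh hres =>
      have hTh : F.hyperfocalSubgroup p = T := hhyp.symm.trans hEh
      have h2 := sameMaps_pPrimeResidual (pResidual_same hS hTh hD hTS hE hEF) hD' hres
      exact .step F p D D' hD hD' (SameMaps.isResidualLimitOf ⟨h2.1.symm, fun P => (h2.2 P).symm⟩
        (.stable E p hEh hres))
    | step _ _ D₁ D₁' hD₁ hD₁' hstep' =>
      have hle : E.hyperfocalSubgroup p ≤ T := hyperfocalSubgroup_le_S E p
      have h1 := pResidual_same (T := E.hyperfocalSubgroup p) hS hhyp.symm hD (hle.trans hTS) hD₁.1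
        (pPowerIndex_trans hle hEF hD₁.2 hhyp.ge)
      refine .step F p D D' hD hD' ?_
      have key : ∀ {A B : Subgroup Ω} {X X' : Cfsg.FusionSystem A} {Y Y' : Cfsg.FusionSystem B},
          SameMaps X Y → X.IsPPrimeResidual p X' → Y.IsPPrimeResidual p Y' → SameMaps Y' X' := by
        intro A B X X' Y Y' hXY hX hY
        obtain ⟨rfl, hXY⟩ := hXY
        obtain rfl := eq_of_hom hXY
        exact ⟨rfl, fun P => congrArg (fun Z => Z.Hom P) (pPrimeResidual_unique hY hX)⟩
      exact (key h1 hD' hD₁').isResidualLimitOf hstep'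

end CfsgLib.Fusion.PPowerIndex
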