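import Cfsg.Agent.Lib.Fusion.PPowerIndex.System
import Cfsg.Agent.Lib.Fusion.Descent
import Cfsg.Agent.Lib.Fusion.Hyperfocal
import Cfsg.Agent.Lib.Fusion.Invariant
import Cfsg.Agent.Lib.Fusion.PPrimeCentric

/-!
# Subsystems of `p`-power index
-/

set_option autoImplicit false

namespace CfsgLib.Fusion.PPowerIndex

open Cfsg Cfsg.FusionSystem CfsgLib.Fusion
open scoped Pointwise

universe u

variable {Ω : Type u} [Group Ω] {S T : Subgroup Ω} {F : Cfsg.FusionSystem S} {p : ℕ}

/-- Monotonicity of `O^p` of automorphism groups. -/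
theorem pResidual_autGroup_mono {E : Cfsg.FusionSystem T} (hEF : E.IsSubsystemOf F) (hTS : T ≤ S)
    {P : Subgroup Ω} (hP : P ≤ T) :
    (pResidual p (E.autGroup P)).map (E.autGroup P).subtype ≤
      (pResidual p (F.autGroup P)).map (F.autGroup P).subtype :=
  CfsgLib.Transfer.map_subtype_pResidual_mono fun α hα =>
    (mem_autGroup_iff_hom (hP.trans hTS)).2 (hEF P ((mem_autGroup_iff_hom hP).1 hα))

/-- A saturated subsystem lies in every system over the same group containing `O^p` of all automorphism groups. -/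
theorem le_of_residual [Finite T] [Fact p.Prime] (hT : IsPGroup p T) (hTS : T ≤ S)
    {E : Cfsg.FusionSystem T} (hE : E.IsSaturated p) (hEF : E.IsSubsystemOf F)
    (D : Cfsg.FusionSystem T)
    (hD : ∀ Q, Q ≤ T → (pResidual p (F.autGroup Q)).map (F.autGroup Q).subtype ≤ D.autGroup Q) :
    ∀ P, E.Hom P ⊆ D.Hom P := by
  refine Descent.hom_le_of_aut (E := D) hT hE fun Q hQ _ => ?_
  have : Finite Q := finite_of_le hQ.1
  have : Finite (MulAut Q) := finite_mulAut
  obtain ⟨-, R, hR⟩ := isFullyAutomized_of_isFullyNormalized hT hE hQ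
  intro α hα
  have htop := CfsgLib.Transfer.pResidual_sup_of_sylow R
  have hmem : (⟨α, hα⟩ : E.autGroup Q) ∈
      (↑(pResidual p (E.autGroup Q) ⊔ (R : Subgroup (E.autGroup Q))) : Set _) := by rw [htop]; trivial
  rw [Subgroup.normal_mul] at hmem
  obtain ⟨β, hβ, t, ht, heq⟩ := hmem
  have ht' : (t : MulAut Q) ∈ autInducedBy T Q := by
    have : t ∈ (R : Subgroup (E.autGroup Q)) := ht
    rwa [hR] at this
  rw [show α = (β : MulAut Q) * (t : MulAut Q) from (congrArg Subtype.val heq).symm]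
  exact mul_mem (hD Q hQ.1 (pResidual_autGroup_mono hEF hTS hQ.1 ⟨β, hβ, rfl⟩))
    (autInducedBy_le_autGroup D hQ.1 ht')

/-- There is at most one saturated subsystem of `p`-power index over a subgroup. -/
theorem eq_of_pPowerIndex [Finite T] [Fact p.Prime] (hT : IsPGroup p T) (hTS : T ≤ S)
    {E E' : Cfsg.FusionSystem T} (hE : E.IsSaturated p) (hEi : E.HasPPowerIndexIn F p)
    (hE' : E'.IsSaturated p) (hEi' : E'.HasPPowerIndexIn F p) : E = E' := by
  have h : ∀ P, E.Hom P = E'.Hom P := fun P => subset_antisymm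
    (le_of_residual hT hTS hE hEi.1 E' hEi'.2.2 P) (le_of_residual hT hTS hE' hEi'.1 E hEi.2.2 P)
  cases E
  cases E'
  obtain rfl : _ = _ := funext h
  rfl

theorem hyperfocal_mono {E : Cfsg.FusionSystem T} (hEF : E.IsSubsystemOf F) (hTS : T ≤ S) :
    E.hyperfocalSubgroup p ≤ F.hyperfocalSubgroup p := by
  refine (Subgroup.closure_le _).2 ?_
  rintro _ ⟨P, α, x, hP, hα, rfl⟩
  obtain ⟨β, hβ, hβα⟩ := pResidual_autGroup_mono (p := p) hEF hTS hP ⟨α, hα, rfl⟩
  have : (β : MulAut P) = α := hβα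
  rw [← this]
  exact mem_hyperfocal_of_pResidual (hP.trans hTS) hβ x

/-- `p`-power index is transitive. -/
theorem pPowerIndex_trans {M : Subgroup Ω} {D : Cfsg.FusionSystem M} {E : Cfsg.FusionSystem T}
    (hTM : T ≤ M) (hD : D.HasPPowerIndexIn F p) (hE : E.HasPPowerIndexIn D p)
    (hT : F.hyperfocalSubgroup p ≤ T) : E.HasPPowerIndexIn F p := by
  refine ⟨fun P φ hφ => hD.1 P (hE.1 P hφ), hT, fun P hP => ?_⟩
  rw [CfsgLib.Transfer.map_subtype_pResidual, Subgroup.closure_le]
  rintro α ⟨hα, hcop⟩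
  refine hE.2.2 P hP ?_
  rw [CfsgLib.Transfer.map_subtype_pResidual]
  refine Subgroup.subset_closure ⟨hD.2.2 P (hP.trans hTM) ?_, hcop⟩
  rw [CfsgLib.Transfer.map_subtype_pResidual]
  exact Subgroup.subset_closure ⟨hα, hcop⟩

theorem normal_and_index_of_coatom {G : Type*} [Group G] [Finite G] [hp : Fact p.Prime]
    (hG : IsPGroup p G) {M : Subgroup G} (hM : IsCoatom M) : M.Normal ∧ M.index = p := by
  have := hG.isNilpotent
  refine ⟨Subgroup.NormalizerCondition.normal_of_coatom M Group.normalizerCondition_of_isNilpotent hM,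
    ?_⟩
  obtain ⟨m, hm⟩ := (IsPGroup.iff_card.1 hG)
  obtain ⟨n, hn⟩ := IsPGroup.iff_card.1 (hG.to_subgroup M)
  have h1 : Nat.card M * M.index = p ^ m := by rw [M.card_mul_index, hm]
  have hne : M.index ≠ 1 := fun h => hM.1 (Subgroup.index_eq_one.1 h)
  have hnm : n < m := by
    by_contra hle
    push_neg at hle
    refine hne ((Nat.mul_eq_left (Nat.card_pos (α := M)).ne').1 (le_antisymm ?_ ?_))
    · rw [h1, hn]
      exact Nat.pow_le_pow_right hp.out.pos hle
    · exact Nat.le_mul_of_pos_right _ (Nat.pos_of_ne_zero fun h => by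
        rw [h, mul_zero] at h1
        exact pow_ne_zero m hp.out.ne_zero h1.symm)
  obtain ⟨K, hK, hMK⟩ := Sylow.exists_subgroup_card_pow_succ (G := G)
    (by rw [hm]; exact Nat.pow_dvd_pow p hnm : p ^ (n + 1) ∣ Nat.card G) hn
  have hKtop : K = ⊤ := hM.2 K (lt_of_le_of_ne hMK fun h => by
    rw [← h, hn] at hK
    exact absurd hK (Nat.pow_lt_pow_right hp.out.one_lt n.lt_succ_self).ne)
  rw [hKtop, Subgroup.card_top, hm] at hK
  rw [hn, hK, pow_succ] at h1
  exact Nat.eq_of_mul_eq_mul_left (pow_pos hp.out.pos n) h1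

/-- Every map factors through a subsystem by a conjugation. -/
def ConjFactors (E : Cfsg.FusionSystem T) (F : Cfsg.FusionSystem S) : Prop :=
  ∀ (P : Subgroup Ω) (φ : P →* Ω), φ ∈ F.Hom P → P ≤ T →
    ∃ s ∈ S, (MulAut.conj s).toMonoidHom.comp φ ∈ E.Hom P

/-- Existence of the subsystems of `p`-power index. -/
theorem exists_pPowerIndex [Finite S] [hp : Fact p.Prime] (hS : IsPGroup p S) (hF : F.IsSaturated p)
    (hTS : T ≤ S) (hT : F.hyperfocalSubgroup p ≤ T) :
    ∃ E : Cfsg.FusionSystem T, E.IsSaturated p ∧ E.HasPPowerIndexIn F p ∧ ConjFactors E F := by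
  induction hn : Nat.card S using Nat.strong_induction_on generalizing S F with
  | _ n ih =>
  rcases hTS.eq_or_lt with rfl | hlt
  · refine ⟨F, hF, ⟨fun P => subset_rfl, hT, fun P hP => Subgroup.map_subtype_le _⟩,
      fun P φ hφ _ => ⟨1, Subgroup.one_mem _, conj_comp_mem hφ (Subgroup.one_mem _)⟩⟩
  -- a maximal subgroup containing `T`
  have hne : T.subgroupOf S ≠ ⊤ := fun h => hlt.not_ge (Subgroup.subgroupOf_eq_top.1 h)
  obtain ⟨M, hMco, hTM⟩ := (eq_top_or_exists_le_coatom (T.subgroupOf S)).resolve_left hne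
  obtain ⟨hMn, hMidx⟩ := normal_and_index_of_coatom hS hMco
  have hQcard : Nat.card (S ⧸ M) = p := hMidx
  have hcyc : IsCyclic (S ⧸ M) := isCyclic_of_prime_card hQcard
  let eA : S ⧸ M ≃* Multiplicative (ZMod p) := mulEquivOfPrimeCardEq hQcard (Nat.card_zmod p)
  set lam : S →* Multiplicative (ZMod p) := eA.toMonoidHom.comp (QuotientGroup.mk' M) with hlamdef
  have hker : lam.ker = M := by
    ext x
    simp [hlamdef, MonoidHom.mem_ker, QuotientGroup.eq_one_iff]
  have hsurj : Function.Surjective lam := eA.surjective.comp (QuotientGroup.mk'_surjective M)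
  have hTker : T ≤ kerSub lam := fun x hx => by
    rw [kerSub, hker]
    exact ⟨⟨x, hTS hx⟩, hTM hx, rfl⟩
  have hcardA : Nat.card (Multiplicative (ZMod p)) = p := Nat.card_zmod p
  have hst : IsStable F lam := isStable_of_mod (hT.trans hTker) fun P φ hφ =>
    exists_conj_mod_hyperfocal hS hF hφ
  obtain ⟨d⟩ := exists_data hS hF hst fun a => by
    have := pow_card_eq_one' (x := a)
    rwa [hcardA] at this
  have hcard : Nat.card (kerSub lam) < Nat.card S := by
    rw [kerSub, hker, Nat.card_congr (Subgroup.equivMapOfInjective M S.subtype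
      S.subtype_injective).toEquiv.symm]
    conv_rhs => rw [← M.index_mul_card, hMidx]
    exact lt_mul_left Nat.card_pos hp.out.one_lt
  have : Finite (kerSub lam) := finite_of_le kerSub_le
  have hD := d.system_pPowerIndex (hT.trans hTker)
  obtain ⟨E, hEs, hEi, hEc⟩ := ih (Nat.card (kerSub lam)) (hn ▸ hcard)
    (S := kerSub lam) (F := d.system) (hS.to_le kerSub_le) (d.system_saturated hcardA hsurj)
    hTker ((hyperfocal_mono hD.1 kerSub_le).trans hT) rfl
  refine ⟨E, hEs, pPowerIndex_trans hTker hD hEi hT, fun P φ hφ hP => ?_⟩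
  obtain ⟨s, hs, hsφ⟩ := d.exists_conj_system hsurj hφ (hP.trans hTker)
  obtain ⟨m, hm, hmφ⟩ := hEc P _ hsφ hP
  refine ⟨m * s, S.mul_mem (kerSub_le hm) hs, mem_of_restrict hmφ le_rfl _ fun x => ?_⟩
  show m * s * φ x * (m * s)⁻¹ = m * (s * φ ⟨x, x.2⟩ * s⁻¹) * m⁻¹
  simp [mul_assoc]

/-- A saturated subsystem of `p`-power index over a normal subgroup is normal. -/
theorem isNormalIn_of_pPowerIndex [Finite S] [Fact p.Prime] (hS : IsPGroup p S)
    (hF : F.IsSaturated p) (hTS : T ≤ S) (hTn : (T.subgroupOf S).Normal)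
    (hT : F.hyperfocalSubgroup p ≤ T) {E : Cfsg.FusionSystem T} (hEs : E.IsSaturated p)
    (hEi : E.HasPPowerIndexIn F p) : E.IsNormalIn F p := by
  have hTp := hS.to_le hTS
  have : Finite T := finite_of_le hTS
  have hconj : ∀ s ∈ S, ∀ x ∈ T, s * x * s⁻¹ ∈ T := fun s hs x hx =>
    hTn.conj_mem ⟨x, hTS hx⟩ hx ⟨s, hs⟩
  have hnorm : ∀ s ∈ S, s ∈ Subgroup.normalizer (T : Set Ω) := fun s hs =>
    Subgroup.mem_normalizer_iff.2 fun x => ⟨hconj s hs x, fun h => by
      simpa [mul_assoc] using hconj s⁻¹ (S.inv_mem hs) _ h⟩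
  have hclosed : F.StronglyClosed T := by
    refine ⟨hTS, fun R hR φ hφ x => ?_⟩
    obtain ⟨s, hs, h⟩ := exists_conj_mod_hyperfocal hS hF hφ
    have := T.mul_mem (hconj s hs _ (hR x.2)) (hT (h x))
    rwa [mul_inv_cancel_left] at this
  -- invariance
  have hinv : IsAutInvariant E F := by
    intro P hPT φ hφ a ha
    have htw : ∀ Q, Q ≤ T →
        (pResidual p (F.autGroup Q)).map (F.autGroup Q).subtype ≤ (twistSystem E a).autGroup Q := by
      rintro Q hQ _ ⟨β, hβ, rfl⟩
      obtain ⟨e, he, hex⟩ := exists_iso (Q := autImg a Q)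
        (restrict_mem ((mem_autGroup_iff_hom hTS).1 ha) hQ) (range_comp_inclusion hQ)
      have h1 := hEi.2.2 _ (autImg_le a Q) ⟨_, he.autEquiv_mem_pResidual hβ, rfl⟩
      refine (mem_autGroup_iff_hom hQ).2 ⟨hQ, Q.subtype_injective.comp (β : MulAut Q).injective,
        fun x => hQ ((β : MulAut Q) x).2, _, (mem_autGroup_iff_hom (autImg_le a Q)).1 h1,
        fun x hx hax => ?_⟩
      show ((MulAut.congr e (β : MulAut Q) ⟨_, hax⟩ : autImg a Q) : Ω) = _
      rw [show (⟨_, hax⟩ : autImg a Q) = e x from Subtype.ext (hex x).symm, congr_apply,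
        MulEquiv.symm_apply_apply]
      exact hex _
    obtain ⟨-, -, hφT, χ, hχ, hχx⟩ := le_of_residual hTp hTS hEs hEi.1 (twistSystem E a) htw P hφ
    exact ⟨χ, hχ, fun x _ hax => hχx x (hPT x.2) hax⟩
  -- factorization
  obtain ⟨E₀, hE₀s, hE₀i, hE₀c⟩ := exists_pPowerIndex hS hF hTS hT
  obtain rfl := eq_of_pPowerIndex hTp hTS hEs hEi hE₀s hE₀i
  have hfrat : ∀ (P : Subgroup Ω), P ≤ T → ∀ (φ : P →* Ω), φ ∈ F.Hom P → Factors E F φ := by
    intro P hP φ hφ
    obtain ⟨s, hs, hmem⟩ := hE₀c P φ hφ hP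
    refine ⟨conjAut T s⁻¹ (hnorm _ (S.inv_mem hs)),
      autInducedBy_le_autGroup F hTS (conjAut_mem_autInducedBy (S.inv_mem hs) _), _, hmem,
      fun x hx => ?_⟩
    rw [conjAut_apply]
    show φ x = s⁻¹ * (s * φ x * s⁻¹) * s⁻¹⁻¹
    simp [mul_assoc]
  refine ⟨⟨hEs, hF, hEi.1, hclosed, hinv, hfrat⟩, ?_⟩
  -- extension
  set U := T ⊔ centralizerIn S T with hU
  have hUS : U ≤ S := sup_le hTS (centralizerIn_le S T)
  have hTU : T ≤ U := le_sup_left
  have hCU : centralizerIn S T ≤ U := le_sup_right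
  let Ext : MulAut T → Prop := fun α => ∃ β ∈ F.autGroup U,
    (∀ x : T, ((β (Subgroup.inclusion hTU x) : U) : Ω) = ((α x : T) : Ω)) ∧
    ∀ c : U, (c : Ω) ∈ centralizerIn S T →
      (c : Ω)⁻¹ * ((β c : U) : Ω) ∈ T ⊓ Subgroup.centralizer (T : Set Ω)
  have hCmap : ∀ (β : MulAut U) (α : MulAut T),
      (∀ x : T, ((β (Subgroup.inclusion hTU x) : U) : Ω) = ((α x : T) : Ω)) →
      ∀ c : U, (c : Ω) ∈ centralizerIn S T → ((β c : U) : Ω) ∈ centralizerIn S T := by
    intro β α h c hc
    refine ⟨hUS (β c).2, Subgroup.mem_centralizer_iff.2 fun y hy => ?_⟩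
    obtain ⟨x, hx⟩ := α.surjective ⟨y, hy⟩
    rw [show y = ((β (Subgroup.inclusion hTU x) : U) : Ω) by rw [h, hx]]
    show ((β (Subgroup.inclusion hTU x) * β c : U) : Ω) = ((β c * β (Subgroup.inclusion hTU x) : U) : Ω)
    rw [← map_mul, ← map_mul]
    exact congrArg (fun z : U => ((β z : U) : Ω)) (Subtype.ext
      (Subgroup.mem_centralizer_iff.1 hc.2 x x.2))
  have hmul : ∀ α α', Ext α → Ext α' → Ext (α * α') := by
    rintro α α' ⟨β, hβ, hβx, hβc⟩ ⟨β', hβ', hβx', hβc'⟩
    refine ⟨β * β', mul_mem hβ hβ', fun x => ?_, fun c hc => ?_⟩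
    · show ((β (β' (Subgroup.inclusion hTU x)) : U) : Ω) = ((α (α' x) : T) : Ω)
      rw [← hβx, show β' (Subgroup.inclusion hTU x) = Subgroup.inclusion hTU (α' x) from
        Subtype.ext (hβx' x)]
    · have h1 := hβc' c hc
      have h2 := hβc (β' c) (hCmap β' α' hβx' c hc)
      have h3 := (T ⊓ Subgroup.centralizer (T : Set Ω)).mul_mem h1 h2
      rw [mul_assoc, mul_inv_cancel_left] at h3
      exact h3
  have hone : Ext 1 := ⟨1, one_mem _, fun x => rfl, fun c _ => by
    show (c : Ω)⁻¹ * (c : Ω) ∈ _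
    rw [inv_mul_cancel]
    exact one_mem _⟩
  have hcop : ∀ α : E.autGroup T, Nat.Coprime (orderOf α) p → Ext α := by
    intro α hα
    have hn : F.IsFullyNormalized T := ⟨hTS, fun Q hQ => by
      have : Finite (normalizerIn S T) := finite_of_le (normalizerIn_le S T)
      exact Nat.card_le_card_of_injective (fun x : normalizerIn S Q =>
        (⟨x, x.2.1, hnorm _ x.2.1⟩ : normalizerIn S T)) fun a b h =>
          Subtype.ext (congrArg Subtype.val h :)⟩
    have hrec := isReceptive_of_isFullyNormalized hS hF hn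
    have hαF : (α : MulAut T) ∈ F.autGroup T :=
      (mem_autGroup_iff_hom hTS).2 (hEi.1 T ((mem_autGroup_iff_hom le_rfl).1 α.2))
    have hiso : IsFIso F ((α : MulAut T) : T ≃* T) := (mem_autGroup_iff hTS).1 hαF
    have hUN : U ≤ normalizerIn S T := fun g hg => ⟨hUS hg, hnorm _ (hUS hg)⟩
    obtain ⟨ψ, hψ, -, hag⟩ := hiso.exists_extension hrec hTU hUN fun g hg => by
      have hprod : g ∈ ((T : Set Ω) * (centralizerIn S T : Set Ω)) := by
        rw [← Subgroup.coe_mul_of_left_le_normalizer_right]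
        · exact hg
        · intro t ht
          exact Subgroup.mem_normalizer_iff.2 fun c => by
            constructor
            · rintro ⟨hcS, hc⟩
              refine ⟨S.mul_mem (S.mul_mem (hTS ht) hcS) (S.inv_mem (hTS ht)), ?_⟩
              rw [show t * c * t⁻¹ = c by
                rw [Subgroup.mem_centralizer_iff.1 hc t ht, mul_inv_cancel_right]]
              exact hc
            · rintro ⟨hcS, hc⟩
              have h1 : t * c * t⁻¹ = c := by
                have h2 := Subgroup.mem_centralizer_iff.1 hc t ht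
                have h3 : t * (t * c * t⁻¹) = t * c := by rw [h2, inv_mul_cancel_right]
                exact mul_left_cancel h3
              rw [← h1]
              exact ⟨hcS, hc⟩
      obtain ⟨t, ht, c, hc, rfl⟩ := hprod
      refine mem_autInducedBy_iff.2 ⟨((α : MulAut T) ⟨t, ht⟩ : T), hTS ((α : MulAut T) ⟨t, ht⟩).2,
        fun y => ?_⟩
      rw [congr_apply]
      have e : conjAut T (t * c) (hUN hg).2 ((α : MulAut T).symm y) =
          ⟨t, ht⟩ * (α : MulAut T).symm y * ⟨t, ht⟩⁻¹ := Subtype.ext (by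
        rw [conjAut_apply]
        show t * c * ((α : MulAut T).symm y : Ω) * (t * c)⁻¹ = t * _ * t⁻¹
        rw [mul_assoc t c, ← Subgroup.mem_centralizer_iff.1 hc.2 _ ((α : MulAut T).symm y).2]
        simp [mul_assoc])
      show (((α : MulAut T) (conjAut T (t * c) (hUN hg).2 ((α : MulAut T).symm y)) : T) : Ω) = _
      rw [e, map_mul, map_mul, map_inv, MulEquiv.apply_symm_apply]
      rfl
    have hψU : ∀ x, ψ x ∈ U := by
      intro x
      have hle : U ≤ (U.comap ψ).map U.subtype := by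
        refine sup_le (fun t ht => ⟨⟨t, hTU ht⟩, ?_, rfl⟩) (fun c hc => ⟨⟨c, hCU hc⟩, ?_, rfl⟩)
        · show ψ ⟨t, hTU ht⟩ ∈ U
          rw [hag ⟨t, ht⟩]
          exact hTU ((α : MulAut T) ⟨t, ht⟩).2
        · show ψ ⟨c, hCU hc⟩ ∈ U
          refine hCU ⟨map_mem hψ _, Subgroup.mem_centralizer_iff.2 fun y hy => ?_⟩
          obtain ⟨t, ht⟩ := (α : MulAut T).surjective ⟨y, hy⟩
          rw [show y = ψ ⟨t, hTU t.2⟩ by rw [hag t, ht]]
          rw [← map_mul, ← map_mul]
          exact congrArg ψ (Subtype.ext (Subgroup.mem_centralizer_iff.1 hc.2 t t.2))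
      obtain ⟨y, hy, hyx⟩ := hle x.2
      rw [show x = y from Subtype.ext hyx.symm]
      exact hy
    have : Finite U := finite_of_le hUS
    have : Finite (MulAut U) := finite_mulAut
    obtain ⟨b, hb, hbx⟩ := exists_aut hψ (range_eq_of_le (hom_inj hψ) hψU)
    obtain ⟨k, hk⟩ := CfsgLib.Transfer.exists_pow_coprime_orderOf (p := p) (⟨b, hb⟩ : F.autGroup U)
    obtain ⟨j, hj⟩ := exists_pow_eq_self_of_coprime (hα.symm.pow_left k)
    set β : F.autGroup U := ((⟨b, hb⟩ : F.autGroup U) ^ p ^ k) ^ j with hβdef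
    have hβcop : Nat.Coprime (orderOf β) p := hk.coprime_dvd_left (orderOf_pow_dvd j)
    have hres : ∀ n : ℕ, ∀ x : T,
        (((b ^ n) (Subgroup.inclusion hTU x) : U) : Ω) = ((((α : MulAut T) ^ n) x : T) : Ω) := by
      intro n
      induction n with
      | zero => exact fun x => rfl
      | succ n ihn =>
        intro x
        rw [pow_succ, pow_succ, MulAut.mul_apply, MulAut.mul_apply, ← ihn]
        rw [show b (Subgroup.inclusion hTU x) = Subgroup.inclusion hTU ((α : MulAut T) x) from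
          Subtype.ext ((hbx _).trans ((congrArg ψ (Subtype.ext rfl)).trans (hag x)))]
    refine ⟨β, β.2, fun x => ?_, fun c hc => ?_⟩
    · have hj' : (α : MulAut T) = ((α : MulAut T) ^ p ^ k) ^ j := (congrArg Subtype.val hj).symm
      conv_rhs => rw [hj', ← pow_mul]
      rw [← hres]
      simp [hβdef, ← pow_mul]
    · have hCβ := hCmap (β : MulAut U) (((α : MulAut T) ^ p ^ k) ^ j) (fun x => by
        rw [← pow_mul, ← hres]
        simp [hβdef, ← pow_mul]) c hc
      refine ⟨hT (mem_hyperfocal_of_pResidual hUS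
        (CfsgLib.Transfer.mem_pResidual_of_coprime hβcop) c), ?_⟩
      exact (Subgroup.centralizer _).mul_mem ((Subgroup.centralizer _).inv_mem hc.2) hCβ.2
  intro α hα
  have : Finite (MulAut T) := finite_mulAut
  obtain ⟨-, R, hR⟩ := isFullyAutomized_of_isFullyNormalized hTp hEs (isFullyNormalized_top E)
  have htop := CfsgLib.Transfer.pResidual_sup_of_sylow R
  have hmem : (⟨α, hα⟩ : E.autGroup T) ∈
      (↑(pResidual p (E.autGroup T) ⊔ (R : Subgroup (E.autGroup T))) : Set _) := by rw [htop]; trivial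
  rw [Subgroup.normal_mul] at hmem
  obtain ⟨γ, hγ, t, ht, hγt⟩ := hmem
  rw [show α = (γ : MulAut T) * (t : MulAut T) from (congrArg Subtype.val hγt).symm]
  refine hmul _ _ ?_ ?_
  · clear hγt
    induction hγ using Subgroup.closure_induction'' with
    | one => exact hone
    | mem x hx => exact hcop x hx
    | inv_mem x hx => exact hcop x⁻¹ (by
        show Nat.Coprime (orderOf x⁻¹) p
        rw [orderOf_inv]; exact hx)
    | mul x y _ _ hx hy => exact hmul _ _ hx hy
  · have ht' : (t : MulAut T) ∈ autInducedBy T T := by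
      have : t ∈ (R : Subgroup (E.autGroup T)) := ht
      rwa [hR] at this
    obtain ⟨g, hgN, hg, heq⟩ := exists_eq_conjAut ht'
    refine ⟨conjAut U g (Subgroup.le_normalizer (hTU hg)),
      autInducedBy_le_autGroup F hUS (conjAut_mem_autInducedBy (hTS hg) _), fun x => ?_, fun c hc => ?_⟩
    · rw [heq]; rfl
    · rw [conjAut_apply, Subgroup.mem_centralizer_iff.1 hc.2 g hg, mul_inv_cancel_right,
        inv_mul_cancel]
      exact one_mem _

end CfsgLib.Fusion.PPowerIndex
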