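import Cfsg.Agent.Lib.Fusion.CharBiset
import Cfsg.Agent.Lib.Fusion.Centric

/-!
# A character on the isomorphisms of a saturated system

For a stable homomorphism `lam : S →* A` into an abelian group of exponent `p`.
-/

set_option autoImplicit false
set_option linter.unusedSectionVars false

namespace CfsgLib.Fusion.PPowerIndex

open Cfsg Cfsg.FusionSystem CfsgLib.Fusion CfsgLib.Marks CfsgLib.Fusion.Realize MulAction

universe u v

variable {Ω : Type u} [Group Ω] {S : Subgroup Ω} {F : Cfsg.FusionSystem S} {p : ℕ}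
variable {A : Type v} [CommGroup A]

/-- A homomorphism constant on the classes of the system. -/
def IsStable (F : Cfsg.FusionSystem S) (lam : S →* A) : Prop :=
  ∀ (P : Subgroup Ω) (φ : P →* Ω) (hφ : φ ∈ F.Hom P) (x : P),
    lam ⟨φ x, map_mem hφ x⟩ = lam ⟨x, dom_le hφ x.2⟩

/-- All conjugates of `P` have their centralizers in the kernel. -/
def Tight (F : Cfsg.FusionSystem S) (lam : S →* A) (P : Subgroup Ω) : Prop :=
  ∀ Q, F.IsConj P Q → ∀ z : S, (z : Ω) ∈ centralizerIn S Q → lam z = 1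

/-- The data for the character. -/
structure Data (F : Cfsg.FusionSystem S) (p : ℕ) (lam : S →* A) where
  c : Subgroup (S × S) → ℕ
  mem : ∀ D, c D ≠ 0 → D ∈ graphSubs F
  realized : F.IsRealizedBy (leftHom c)
  top : ∀ E ∈ graphSubs F, Nat.card E = Nat.card S → mark c E = Nat.card (Subgroup.center S)
  stable : IsStable F lam
  exponent : ∀ a : A, a ^ p = 1
  prime : p.Prime
  pgroup : IsPGroup p S
  saturated : F.IsSaturated p

variable {lam : S →* A}

theorem exists_data [Finite S] [hp : Fact p.Prime] (hS : IsPGroup p S) (hF : F.IsSaturated p)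
    (hst : IsStable F lam) (hA : ∀ a : A, a ^ p = 1) : Nonempty (Data F p lam) := by
  obtain ⟨c, f, hc, hf, htop⟩ := CharBiset.exists_left_stable hS hF
  exact ⟨⟨c, hc, isRealizedBy_leftHom F c hc f (fun E hE => (hf E hE).1)
    (fun E hE => (hf E hE).1.symm ▸ (hf E hE).2), htop, hst, hA, hp.out, hS, hF⟩⟩

namespace Data

variable [Finite S] (d : Data F p lam)

/-- The group of permutations of the biset commuting with the right action. -/
abbrev Perms := rightCentralizer d.c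

include d in
theorem lam_eq_of_graph {D : Subgroup (S × S)} (hD : D ∈ graphSubs F) {x : S × S} (hx : x ∈ D) :
    lam x.1 = lam x.2 := by
  obtain ⟨P, φ, hφ, hg⟩ := hD
  obtain ⟨h, hv⟩ := hg x hx
  have h2 := d.stable P φ hφ ⟨x.2, h⟩
  rwa [show (⟨φ ⟨x.2, h⟩, map_mem hφ _⟩ : S) = x.1 from Subtype.ext hv] at h2

/-- The coordinate function. -/
noncomputable def Lam (ω : GSet d.c) : A :=
  lam ω.2.2.out.1 * (lam ω.2.2.out.2)⁻¹

theorem Lam_smul (y : S × S) (ω : GSet d.c) :
    d.Lam (y • ω) = lam y.1 * (lam y.2)⁻¹ * d.Lam ω := by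
  obtain ⟨D, i, q⟩ := ω
  have hD : D ∈ graphSubs F := d.mem D fun h => by
    have := i.2
    omega
  have h1 : ((y * q.out : S × S) : (S × S) ⧸ D) = y • q := by
    conv_rhs => rw [← QuotientGroup.out_eq' q]
    rfl
  obtain ⟨z, hz⟩ := QuotientGroup.mk_out_eq_mul D (y * q.out)
  rw [h1] at hz
  show lam (y • q).out.1 * (lam (y • q).out.2)⁻¹ = _ * (lam q.out.1 * (lam q.out.2)⁻¹)
  rw [hz]
  simp only [Prod.fst_mul, Prod.snd_mul, map_mul, mul_inv]
  rw [d.lam_eq_of_graph hD z.2]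
  calc lam y.1 * lam q.out.1 * lam (z : S × S).2 *
        ((lam y.2)⁻¹ * (lam q.out.2)⁻¹ * (lam (z : S × S).2)⁻¹)
      = lam y.1 * (lam y.2)⁻¹ * (lam q.out.1 * (lam q.out.2)⁻¹) *
        (lam (z : S × S).2 * (lam (z : S × S).2)⁻¹) := by ac_rfl
    _ = _ := by rw [mul_inv_cancel, mul_one]

theorem free {b : S} {ω : GSet d.c} (h : ((1, b) : S × S) • ω = ω) : b = 1 :=
  graphSubs_fst_eq_one F (stabilizer_gset_mem F d.mem ω) (x := (1, b)) h rfl

/-- The orbits of the right action. -/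
def rightRel : Setoid (GSet d.c) where
  r ω ω' := ∃ b : S, ((1, b) : S × S) • ω = ω'
  iseqv :=
    { refl := fun ω => ⟨1, one_smul _ ω⟩
      symm := fun ⟨b, h⟩ => ⟨b⁻¹, by rw [← h, smul_smul, Prod.mk_mul_mk, one_mul, inv_mul_cancel,
        Prod.mk_one_one, one_smul]⟩
      trans := fun ⟨b, h⟩ ⟨b', h'⟩ => ⟨b' * b, by rw [← h', ← h, smul_smul, Prod.mk_mul_mk, one_mul]⟩ }

/-- The set of right orbits. -/
def Orb := Quotient d.rightRel

instance : Finite d.Orb := Quotient.finite _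

/-- The orbit of a point. -/
def orb (ω : GSet d.c) : d.Orb := Quotient.mk d.rightRel ω

theorem comm_right (g : d.Perms) (b : S) (ω : GSet d.c) :
    (g : Equiv.Perm (GSet d.c)) (((1, b) : S × S) • ω) =
      ((1, b) : S × S) • (g : Equiv.Perm (GSet d.c)) ω :=
  (Equiv.ext_iff.1 (Subgroup.mem_centralizer_iff.1 g.2 _ ⟨b, rfl⟩) ω).symm

instance : MulAction d.Perms d.Orb where
  smul g := Quotient.map (g : Equiv.Perm (GSet d.c)) fun ω ω' ⟨b, h⟩ =>
    ⟨b, (d.comm_right g b ω).symm.trans (congrArg _ h)⟩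
  one_smul o := Quotient.inductionOn o fun _ => rfl
  mul_smul g h o := Quotient.inductionOn o fun _ => rfl

theorem smul_orb (g : d.Perms) (ω : GSet d.c) :
    g • d.orb ω = d.orb ((g : Equiv.Perm (GSet d.c)) ω) := rfl

/-- The cocycle. -/
noncomputable def cg (g : d.Perms) : d.Orb → A :=
  Quotient.lift (fun ω => d.Lam ((g : Equiv.Perm (GSet d.c)) ω) * (d.Lam ω)⁻¹) fun ω ω' ⟨b, h⟩ => by
    show _ = _
    rw [← h, d.comm_right, d.Lam_smul, d.Lam_smul, map_one, one_mul, mul_inv]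
    calc d.Lam ((g : Equiv.Perm (GSet d.c)) ω) * (d.Lam ω)⁻¹
        = (lam b)⁻¹ * ((lam b)⁻¹)⁻¹ * (d.Lam ((g : Equiv.Perm (GSet d.c)) ω) * (d.Lam ω)⁻¹) := by
          rw [mul_inv_cancel, one_mul]
      _ = _ := by ac_rfl

theorem cg_orb (g : d.Perms) (ω : GSet d.c) :
    d.cg g (d.orb ω) = d.Lam ((g : Equiv.Perm (GSet d.c)) ω) * (d.Lam ω)⁻¹ := rfl

theorem cg_mul (g h : d.Perms) (o : d.Orb) : d.cg (g * h) o = d.cg g (h • o) * d.cg h o := by
  induction o using Quotient.inductionOn with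
  | _ ω =>
    show d.Lam ((g : Equiv.Perm (GSet d.c)) ((h : Equiv.Perm (GSet d.c)) ω)) * (d.Lam ω)⁻¹ =
      d.Lam ((g : Equiv.Perm (GSet d.c)) ((h : Equiv.Perm (GSet d.c)) ω)) *
        (d.Lam ((h : Equiv.Perm (GSet d.c)) ω))⁻¹ *
        (d.Lam ((h : Equiv.Perm (GSet d.c)) ω) * (d.Lam ω)⁻¹)
    rw [mul_assoc, inv_mul_cancel_left]

theorem cg_one (o : d.Orb) : d.cg 1 o = 1 := by
  induction o using Quotient.inductionOn with
  | _ ω => exact mul_inv_cancel _

theorem cg_leftHom (a : S) (o : d.Orb) : d.cg (leftHom d.c a) o = lam a := by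
  induction o using Quotient.inductionOn with
  | _ ω =>
    show d.Lam (((a, 1) : S × S) • ω) * (d.Lam ω)⁻¹ = lam a
    rw [d.Lam_smul]
    simp

/-- The orbits fixed by a subgroup. -/
def FixO (P : Subgroup Ω) : Set d.Orb :=
  {o | ∀ x : S, (x : Ω) ∈ P → leftHom d.c x • o = o}

/-- The transported product. -/
noncomputable def V (g : d.Perms) (P : Subgroup Ω) : A := ∏ᶠ o ∈ d.FixO P, d.cg g o

/-- `g` induces `φ`. -/
def Inter {P : Subgroup Ω} (φ : P →* Ω) (g : d.Perms) : Prop :=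
  ∀ (x : P) (hx : (x : Ω) ∈ S) (hφ : φ x ∈ S),
    leftHom d.c ⟨φ x, hφ⟩ * g = g * leftHom d.c ⟨x, hx⟩

theorem exists_inter {P : Subgroup Ω} {φ : P →* Ω} (hφ : φ ∈ F.Hom P) : ∃ g, d.Inter φ g := by
  obtain ⟨g, hg⟩ := (d.realized.2 P (dom_le hφ) φ (map_mem hφ)).1 hφ
  refine ⟨g, fun x hx hφx => ?_⟩
  rw [hg x, inv_mul_cancel_right]

theorem Inter.mapsTo {P Q : Subgroup Ω} {φ : P →* Ω} (hφ : φ ∈ F.Hom P) {g : d.Perms}
    (hg : d.Inter φ g) (hr : φ.range = Q) : Set.BijOn (g • ·) (d.FixO P) (d.FixO Q) := by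
  refine ⟨fun o ho => ?_, (MulAction.injective g).injOn, fun o ho => ⟨g⁻¹ • o, ?_, smul_inv_smul g o⟩⟩
  · intro y hy
    obtain ⟨x, hx⟩ := hr.symm ▸ hy
    have h1 := hg x (dom_le hφ x.2) (map_mem hφ x)
    rw [show y = (⟨φ x, map_mem hφ x⟩ : S) from Subtype.ext hx.symm, smul_smul, h1, mul_smul,
      ho _ x.2]
  · intro x hx
    have h1 := hg ⟨x, hx⟩ x.2 (map_mem hφ _)
    have h2 : leftHom d.c x * g⁻¹ = g⁻¹ * leftHom d.c ⟨φ ⟨x, hx⟩, map_mem hφ _⟩ := by
      rw [eq_inv_mul_iff_mul_eq, ← mul_assoc, ← h1, mul_assoc, mul_inv_cancel, mul_one]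
    rw [smul_smul, h2, mul_smul, ho _ (hr ▸ ⟨⟨x, hx⟩, rfl⟩)]

theorem V_mul {P Q : Subgroup Ω} {φ : P →* Ω} (hφ : φ ∈ F.Hom P) {g : d.Perms} (hg : d.Inter φ g)
    (hr : φ.range = Q) (h : d.Perms) : d.V (h * g) P = d.V h Q * d.V g P := by
  rw [V, V, V, finprod_mem_congr rfl fun o _ => d.cg_mul h g o,
    finprod_mem_mul_distrib (Set.toFinite _)]
  congr 1
  exact finprod_mem_eq_of_bijOn (g • ·) (Inter.mapsTo d hφ hg hr) fun _ _ => rfl

theorem V_leftHom (a : S) (P : Subgroup Ω) :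
    d.V (leftHom d.c a) P = lam a ^ Nat.card (d.FixO P) := by
  classical
  have := Fintype.ofFinite d.Orb
  rw [V, finprod_mem_congr rfl fun o _ => d.cg_leftHom a o, finprod_mem_eq_toFinset_prod,
    Finset.prod_const, Nat.card_coe_set_eq, Set.ncard_eq_toFinset_card']

/-- The product of the cocycle of an element of the centralizer vanishes for tight subgroups. -/
theorem V_centralizer {P : Subgroup Ω} (hP : P ≤ S) (hT : Tight F lam P) {h : d.Perms}
    (hh : d.Inter P.subtype h) : d.V h P = 1 := by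
  classical
  have hloop : ∀ k : d.Perms, d.Inter P.subtype k → ∀ o ∈ d.FixO P, k • o = o → d.cg k o = 1 := by
    intro k hk o ho hko
    induction o using Quotient.inductionOn with
    | _ ω =>
      change k • d.orb ω = d.orb ω at hko
      change ∀ x : S, (x : Ω) ∈ P → leftHom d.c x • d.orb ω = d.orb ω at ho
      obtain ⟨b, hb⟩ := Quotient.exact hko.symm
      show d.Lam ((k : Equiv.Perm (GSet d.c)) ω) * (d.Lam ω)⁻¹ = 1
      rw [← hb, d.Lam_smul, mul_assoc (lam _ * _), mul_inv_cancel, mul_one, map_one, one_mul, inv_eq_one]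
      obtain ⟨R, χ, hχ, hgraph⟩ := stabilizer_gset_mem F d.mem ω
      have hy : ∀ x : S, (x : Ω) ∈ P → ∃ y : S, ((x, 1) : S × S) • ω = ((1, y) : S × S) • ω ∧
          ∃ hR : ((y⁻¹ : S) : Ω) ∈ R, χ ⟨_, hR⟩ = x := by
        intro x hx
        obtain ⟨y, hy⟩ := Quotient.exact (ho x hx).symm
        have hy' : ((x, 1) : S × S) • ω = ((1, y) : S × S) • ω := hy.symm
        refine ⟨y, hy', hgraph (x, y⁻¹) ?_⟩
        rw [mem_stabilizer_iff]
        have e1 : ((x, y⁻¹) : S × S) = ((1, y⁻¹) : S × S) * (x, 1) := by simp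
        rw [e1, mul_smul, hy', smul_smul, Prod.mk_mul_mk, one_mul, inv_mul_cancel, Prod.mk_one_one,
          one_smul]
      set Q₀ := (P.comap χ).map R.subtype with hQ₀
      have hQ₀R : Q₀ ≤ R := Subgroup.map_subtype_le _
      obtain ⟨e, he, hex⟩ := exists_iso (restrict_mem hχ hQ₀R) (Q := P) (by
        ext x
        constructor
        · rintro ⟨⟨q, hq⟩, rfl⟩
          obtain ⟨r, hr, rfl⟩ := hq
          exact hr
        · intro hx
          obtain ⟨y, -, hR, hv⟩ := hy ⟨x, hP hx⟩ hx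
          exact ⟨⟨_, ⟨⟨_, hR⟩, by show χ ⟨_, hR⟩ ∈ P; rw [hv]; exact hx, rfl⟩⟩, hv⟩)
      refine hT Q₀ (isConj_symm he.isConj) b ⟨b.2, Subgroup.mem_centralizer_iff.2 ?_⟩
      intro q hq
      have hx : χ ⟨q, hQ₀R hq⟩ ∈ P := by
        obtain ⟨r, hr, rfl⟩ := hq
        exact hr
      obtain ⟨y, hy', hR, hv⟩ := hy ⟨_, hP hx⟩ hx
      have hq : q = ((y⁻¹ : S) : Ω) :=
        congrArg Subtype.val (hom_inj hχ (hv.symm : χ ⟨q, hQ₀R hq⟩ = χ ⟨_, hR⟩))
      have hcom : y * b = b * y := by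
        have h1 := hk ⟨_, hx⟩ (hP hx) (hP hx)
        have h2 := Equiv.ext_iff.1 (congrArg Subtype.val h1) ω
        have h3 : (k : Equiv.Perm (GSet d.c)) (((⟨_, hP hx⟩, 1) : S × S) • ω) =
            ((⟨_, hP hx⟩, 1) : S × S) • (k : Equiv.Perm (GSet d.c)) ω := h2.symm
        rw [hy', d.comm_right, ← hb, smul_smul, smul_smul, Prod.mk_mul_mk, Prod.mk_mul_mk, one_mul,
          mul_one, one_mul] at h3
        have e2 : ((⟨χ ⟨q, hQ₀R ‹_›⟩, hP hx⟩, b) : S × S) =
            ((1, b) : S × S) * (⟨χ ⟨q, hQ₀R ‹_›⟩, hP hx⟩, 1) := by simp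
        rw [e2, mul_smul, hy', smul_smul, Prod.mk_mul_mk, one_mul] at h3
        have h4 : ((1, (b * y)⁻¹ * (y * b)) : S × S) • ω = ω := by
          have e3 : ((1, (b * y)⁻¹ * (y * b)) : S × S) = ((1, (b * y)⁻¹) : S × S) * (1, y * b) := by simp
          rw [e3, mul_smul, h3, smul_smul, Prod.mk_mul_mk, one_mul, inv_mul_cancel, Prod.mk_one_one,
            one_smul]
        exact (inv_mul_eq_one.1 (d.free h4)).symm
      have hcom' : (b : Ω) * (y : Ω) = (y : Ω) * b := congrArg Subtype.val hcom.symm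
      rw [hq, InvMemClass.coe_inv]
      exact (Commute.inv_left (hcom'.symm : Commute (y : Ω) (b : Ω))).eq
  -- a potential on the orbits of `h`
  set H := Subgroup.zpowers h with hH
  have hHI : ∀ k ∈ H, d.Inter P.subtype k := fun k hk x hx hφ => by
    have hc : h ∈ Subgroup.centralizer ({leftHom d.c ⟨x, hx⟩} : Set d.Perms) := by
      rw [Subgroup.mem_centralizer_singleton_iff]
      exact (hh x hx hφ).symm
    exact (Subgroup.mem_centralizer_singleton_iff.1 (Subgroup.zpowers_le.2 hc hk)).symm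
  let r : d.Orb → d.Orb := fun o => (Quotient.mk (MulAction.orbitRel H d.Orb) o).out
  have hr : ∀ o, ∃ k : H, (k : d.Perms) • r o = o := fun o => by
    have h1 : (MulAction.orbitRel H d.Orb) (r o) o := Quotient.mk_out o
    obtain ⟨k, hk⟩ := h1
    refine ⟨k⁻¹, ?_⟩
    rw [InvMemClass.coe_inv, inv_smul_eq_iff]
    exact hk.symm
  choose w hw using hr
  have hFix : ∀ k ∈ H, ∀ o ∈ d.FixO P, k • o ∈ d.FixO P := fun k hk o ho x hx => by
    rw [smul_smul, show leftHom d.c x * k = k * leftHom d.c x from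
      hHI k hk ⟨x, hx⟩ x.2 x.2, mul_smul, ho x hx]
  have hwd : ∀ o ∈ d.FixO P, ∀ k ∈ H, k • r o = o → d.cg k (r o) = d.cg (w o) (r o) := by
    intro o ho k hk hko
    have hro : r o ∈ d.FixO P := by
      have := hFix _ (H.inv_mem (w o).2) o ho
      rwa [inv_smul_eq_iff.2 (hw o).symm] at this
    have hfix : ((w o : d.Perms)⁻¹ * k) • r o = r o := by
      rw [mul_smul, hko, inv_smul_eq_iff.2 (hw o).symm]
    have h1 := hloop _ (hHI _ (H.mul_mem (H.inv_mem (w o).2) hk)) _ hro hfix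
    have h2 := d.cg_mul (w o : d.Perms) ((w o : d.Perms)⁻¹ * k) (r o)
    rw [mul_inv_cancel_left, hfix, h1, mul_one] at h2
    exact h2
  have key : ∀ o ∈ d.FixO P,
      d.cg h o = d.cg (w (h • o)) (r (h • o)) * (d.cg (w o) (r o))⁻¹ := by
    intro o ho
    have hre : r (h • o) = r o := by
      refine congrArg Quotient.out (Quotient.sound ?_)
      exact ⟨⟨h, Subgroup.mem_zpowers h⟩, rfl⟩
    have h1 := hwd (h • o) (hFix h (Subgroup.mem_zpowers h) o ho) (h * w o)
      (H.mul_mem (Subgroup.mem_zpowers h) (w o).2) (by rw [mul_smul, hre, hw])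
    rw [← h1, hre, d.cg_mul, hw, mul_inv_cancel_right]
  rw [V, finprod_mem_congr rfl key, finprod_mem_mul_distrib (Set.toFinite _),
    finprod_mem_inv_distrib _ (Set.toFinite _),
    finprod_mem_eq_of_bijOn (h • ·) (t := d.FixO P) (g := fun o => d.cg (w o) (r o))
      (Inter.mapsTo d (subtype_mem F hP) hh (Subgroup.range_subtype P)) fun o _ => rfl,
    mul_inv_cancel]

/-- The product over an invariant set for a `p`-group is the product over the fixed points. -/
theorem prod_eq_fixed {H : Subgroup d.Perms} (hH : IsPGroup p H) (s : Set d.Orb)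
    (hs : ∀ k ∈ H, ∀ o ∈ s, k • o ∈ s) (f : d.Orb → A) (hf : ∀ k ∈ H, ∀ o ∈ s, f (k • o) = f o) :
    (∏ᶠ o ∈ s, f o) = ∏ᶠ o ∈ s ∩ MulAction.fixedPoints H d.Orb, f o := by
  classical
  have : Fact p.Prime := ⟨d.prime⟩
  have := Fintype.ofFinite d.Orb
  rw [finprod_mem_eq_toFinset_prod, finprod_mem_eq_toFinset_prod,
    ← Finset.prod_fiberwise_of_maps_to (t := Finset.univ.image f)
      (fun x _ => Finset.mem_image_of_mem f (Finset.mem_univ x)) f,
    ← Finset.prod_fiberwise_of_maps_to (s := (s ∩ MulAction.fixedPoints H d.Orb).toFinset)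
      (t := Finset.univ.image f) (fun x _ => Finset.mem_image_of_mem f (Finset.mem_univ x)) f]
  refine Finset.prod_congr rfl fun a _ => ?_
  rw [Finset.prod_congr rfl fun x hx => (Finset.mem_filter.1 hx).2,
    Finset.prod_congr (s₁ := (s ∩ MulAction.fixedPoints H d.Orb).toFinset.filter fun x => f x = a)
      rfl fun x hx => (Finset.mem_filter.1 hx).2, Finset.prod_const, Finset.prod_const]
  refine pow_eq_pow_iff_modEq.2 (Nat.ModEq.of_dvd (orderOf_dvd_of_pow_eq_one (d.exponent a)) ?_)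
  let T : SubMulAction H d.Orb :=
    { carrier := {o | o ∈ s ∧ f o = a}
      smul_mem' := fun k o ho => ⟨hs k k.2 o ho.1, (hf k k.2 o ho.1).trans ho.2⟩ }
  have h1 := hH.card_modEq_card_fixedPoints T
  have e1 : Nat.card T = (s.toFinset.filter fun x => f x = a).card := by
    rw [← Nat.card_eq_finsetCard]
    refine Nat.card_congr (Equiv.subtypeEquivRight fun x => ?_)
    simp
    exact Iff.rfl
  have e2 : Nat.card (MulAction.fixedPoints H T) =
      ((s ∩ MulAction.fixedPoints H d.Orb).toFinset.filter fun x => f x = a).card := by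
    rw [← Nat.card_eq_finsetCard]
    refine Nat.card_congr
      { toFun := fun x => ⟨x.1.1, ?_⟩
        invFun := fun x => ⟨⟨x.1, ?_⟩, ?_⟩
        left_inv := fun x => rfl
        right_inv := fun x => rfl }
    · simp only [Finset.mem_filter, Set.mem_toFinset, Set.mem_inter_iff, MulAction.mem_fixedPoints]
      exact ⟨⟨x.1.2.1, fun k => congrArg Subtype.val (x.2 k)⟩, x.1.2.2⟩
    · have := x.2
      simp only [Finset.mem_filter, Set.mem_toFinset, Set.mem_inter_iff] at this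
      exact ⟨this.1.1, this.2⟩
    · intro k
      have := x.2
      simp only [Finset.mem_filter, Set.mem_toFinset, Set.mem_inter_iff] at this
      exact Subtype.ext (this.1.2 k)
  rwa [e1, e2] at h1

theorem isPGroup_image (R : Subgroup Ω) :
    IsPGroup p ((R.subgroupOf S).map (leftHom d.c)) :=
  (d.pgroup.to_subgroup _).map _

/-- Restriction does not change the value. -/
theorem V_eq_of_le {P R : Subgroup Ω} (hPR : P ≤ R) {φ : R →* Ω} (hφ : φ ∈ F.Hom R) {g : d.Perms}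
    (hg : d.Inter φ g) : d.V g P = d.V g R := by
  have : Fact p.Prime := ⟨d.prime⟩
  induction hn : Nat.card S - Nat.card P using Nat.strong_induction_on generalizing P with
  | _ n ih =>
  rcases hPR.eq_or_lt with rfl | hlt
  · rfl
  have hR := dom_le hφ
  have : Finite R := finite_of_le hR
  set N := normalizerIn R P with hN
  have hNR : N ≤ R := normalizerIn_le R P
  have hPN : P < N := lt_normalizerIn (d.pgroup.to_le hR) hlt
  have hc1 := Descent.card_lt_card_of_lt (hNR.trans hR) hPN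
  have hc2 := Descent.card_le_of_le (hNR.trans hR)
  rw [← ih _ (by omega) hNR rfl]
  have hin : ∀ {k}, k ∈ (N.subgroupOf S).map (leftHom d.c) → ∀ o ∈ d.FixO P, k • o ∈ d.FixO P := by
    rintro _ ⟨y, hy, rfl⟩ o ho x hx
    have hconj : ((y⁻¹ * x * y : S) : Ω) ∈ P := by
      simpa [mul_assoc] using conj_mem_of_mem_normalizer (inv_mem hy.2) hx
    rw [smul_smul, ← map_mul, show x * y = y * (y⁻¹ * x * y) by simp [mul_assoc], map_mul, mul_smul,
      ho _ hconj]
  have hconst : ∀ k ∈ (N.subgroupOf S).map (leftHom d.c), ∀ o ∈ d.FixO P,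
      d.cg g (k • o) = d.cg g o := by
    rintro _ ⟨y, hy, rfl⟩ o ho
    have h1 := hg ⟨y, hNR hy⟩ y.2 (map_mem hφ _)
    have h2 := congrArg (fun k => d.cg k o) h1
    simp only [d.cg_mul, d.cg_leftHom] at h2
    rw [d.stable R φ hφ ⟨y, hNR hy⟩, mul_comm (d.cg g _)] at h2
    exact (mul_left_cancel h2).symm
  rw [V, d.prod_eq_fixed (d.isPGroup_image N) (d.FixO P) (fun k hk => hin hk) (d.cg g) hconst, V]
  refine finprod_mem_congr ?_ fun _ _ => rfl
  ext o
  constructor
  · rintro ⟨-, hfix⟩ x hx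
    exact hfix ⟨_, x, hx, rfl⟩
  · intro ho
    refine ⟨fun x hx => ho x (hPN.le hx), ?_⟩
    rintro ⟨_, x, hx, rfl⟩
    exact ho x hx

theorem card_fixO_modEq (P : Subgroup Ω) : Nat.card d.Orb ≡ Nat.card (d.FixO P) [MOD p] := by
  have : Fact p.Prime := ⟨d.prime⟩
  have h := (d.isPGroup_image P).card_modEq_card_fixedPoints d.Orb
  have e : MulAction.fixedPoints ((P.subgroupOf S).map (leftHom d.c)) d.Orb = d.FixO P := by
    ext o
    constructor
    · intro h x hx
      exact h ⟨_, x, hx, rfl⟩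
    · rintro h ⟨_, x, hx, rfl⟩
      exact h x hx
  rwa [e] at h

theorem not_dvd_card_orb : ¬ p ∣ Nat.card d.Orb := by
  classical
  have : Fact p.Prime := ⟨d.prime⟩
  intro hdvd
  have hmod := d.card_fixO_modEq S
  have hO : p ∣ Nat.card (d.FixO S) := Nat.modEq_zero_iff_dvd.1
    (hmod.symm.trans (Nat.modEq_zero_iff_dvd.2 hdvd))
  have : Finite (MulAut S) := finite_mulAut
  have := Fintype.ofFinite (F.autGroup S)
  let XS : Set (GSet d.c) := {ω | d.orb ω ∈ d.FixO S}
  have hfib : Nat.card XS = Nat.card (d.FixO S) * Nat.card S := by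
    rw [← Nat.card_prod]
    refine (Nat.card_congr (Equiv.ofBijective
      (fun os : d.FixO S × S => (⟨((1, os.2) : S × S) • Quotient.out os.1.1, by
        show d.orb (((1, os.2) : S × S) • Quotient.out os.1.1) ∈ d.FixO S
        have : d.orb (((1, os.2) : S × S) • Quotient.out os.1.1) = os.1.1 :=
          (Quotient.sound (s := d.rightRel) ⟨os.2, rfl⟩).symm.trans (Quotient.out_eq os.1.1)
        rw [this]
        exact os.1.2⟩ : XS)) ⟨?_, ?_⟩)).symm
    · rintro ⟨⟨o, ho⟩, b⟩ ⟨⟨o', ho'⟩, b'⟩ h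
      have h0 : ((1, b) : S × S) • Quotient.out o = ((1, b') : S × S) • Quotient.out o' :=
        congrArg Subtype.val h
      have h1 : o = o' := by
        rw [← Quotient.out_eq o, ← Quotient.out_eq o']
        refine Quotient.sound (s := d.rightRel) ⟨b'⁻¹ * b, ?_⟩
        rw [show ((1, b'⁻¹ * b) : S × S) = (1, b'⁻¹) * (1, b) by simp, mul_smul, h0, smul_smul]
        simp [Prod.mk_one_one]
      subst h1
      have h2 : ((1, b'⁻¹ * b) : S × S) • Quotient.out o = Quotient.out o := by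
        rw [show ((1, b'⁻¹ * b) : S × S) = (1, b'⁻¹) * (1, b) by simp, mul_smul, h0, smul_smul]
        simp [Prod.mk_one_one]
      rw [inv_mul_eq_one.1 (d.free h2)]
    · rintro ⟨ω, hω⟩
      obtain ⟨b, hb⟩ := Quotient.exact (s := d.rightRel) (Quotient.out_eq (d.orb ω))
      exact ⟨⟨⟨d.orb ω, hω⟩, b⟩, Subtype.ext hb⟩
  have hsig : Nat.card XS = Nat.card (F.autGroup S) * Nat.card (Subgroup.center S) := by
    have hiff : ∀ ω, ω ∈ XS ↔ ∃ α : F.autGroup S, ω ∈ fixSet (CharBiset.autGraph (α : MulAut S)) (GSet d.c) := by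
      intro ω
      constructor
      · intro hω
        have hfull : Nat.card (stabilizer (S × S) ω) = Nat.card S := by
          refine le_antisymm (CharBiset.card_graph_le (stabilizer_gset_mem F d.mem ω)) ?_
          refine Nat.card_le_card_of_surjective (fun y : stabilizer (S × S) ω => (y : S × S).1) fun a => ?_
          obtain ⟨b, hb⟩ := Quotient.exact (s := d.rightRel) (hω a a.2).symm
          refine ⟨⟨(a, b⁻¹), ?_⟩, rfl⟩
          have hb' : ((1, b) : S × S) • ω = ((a, 1) : S × S) • ω := hb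
          rw [mem_stabilizer_iff, show ((a, b⁻¹) : S × S) = (1, b⁻¹) * (a, 1) by simp, mul_smul, ← hb',
            smul_smul]
          simp [Prod.mk_one_one]
        obtain ⟨α, hα, heq⟩ := CharBiset.exists_autGraph (stabilizer_gset_mem F d.mem ω) hfull
        exact ⟨⟨α, hα⟩, fun e he => (heq ▸ he : e ∈ stabilizer (S × S) ω)⟩
      · rintro ⟨α, hα⟩ a -
        obtain ⟨b, hb⟩ := (α : MulAut S).surjective a
        have h1 := mem_fixSet.1 hα (a, b) (CharBiset.mem_autGraph.2 hb)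
        refine Quotient.sound (s := d.rightRel) ⟨b, ?_⟩
        exact ((smul_smul ((1, b) : S × S) (a, 1) ω).trans (by simpa using h1))
    have huniq : ∀ (α β : F.autGroup S) ω, ω ∈ fixSet (CharBiset.autGraph (α : MulAut S)) (GSet d.c) →
        ω ∈ fixSet (CharBiset.autGraph (β : MulAut S)) (GSet d.c) → α = β := by
      intro α β ω hα hβ
      refine Subtype.ext (MulEquiv.ext fun x => ?_)
      have hst := stabilizer_gset_mem F d.mem ω
      have h1 : (((α : MulAut S) x, x) : S × S) ∈ stabilizer (S × S) ω :=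
        hα (CharBiset.mem_autGraph.2 rfl)
      have h2 : (((β : MulAut S) x, x) : S × S) ∈ stabilizer (S × S) ω :=
        hβ (CharBiset.mem_autGraph.2 rfl)
      have h3 := graphSubs_snd_eq_one F hst ((stabilizer (S × S) ω).mul_mem
        ((stabilizer (S × S) ω).inv_mem h1) h2) (by simp)
      exact inv_mul_eq_one.1 h3
    have e : (Σ α : F.autGroup S, fixSet (CharBiset.autGraph (α : MulAut S)) (GSet d.c)) ≃ XS :=
      Equiv.ofBijective (fun z => ⟨z.2.1, (hiff _).2 ⟨z.1, z.2.2⟩⟩) ⟨fun a b h => by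
        obtain ⟨α, ω, hω⟩ := a
        obtain ⟨β, ω', hω'⟩ := b
        obtain rfl : ω = ω' := congrArg Subtype.val h
        obtain rfl := huniq α β ω hω hω'
        rfl, fun ⟨ω, hω⟩ => by
        obtain ⟨α, hα⟩ := (hiff ω).1 hω
        exact ⟨⟨α, ω, hα⟩, rfl⟩⟩
    rw [← Nat.card_congr e, Nat.card_sigma, Finset.sum_congr rfl fun α _ => (card_fixSet_gset d.c _).trans
      (d.top _ (CharBiset.autGraph_mem α.2) (CharBiset.card_autGraph _)), Finset.sum_const,
      Finset.card_univ, smul_eq_mul, ← Nat.card_eq_fintype_card]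
  have hI : Nat.card S = Nat.card (Cfsg.Inn S) * Nat.card (Subgroup.center S) := by
    have hker : (MulAut.conj : S →* MulAut S).ker = Subgroup.center S := by
      ext x
      rw [MonoidHom.mem_ker, Subgroup.mem_center_iff]
      constructor
      · intro h y
        have := congrArg (fun (f : MulAut S) => f y) h
        simp only [MulAut.conj_apply, MulAut.one_apply, mul_inv_eq_iff_eq_mul] at this
        exact this.symm
      · intro h
        refine MulEquiv.ext fun y => ?_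
        rw [MulAut.conj_apply, MulAut.one_apply, mul_inv_eq_iff_eq_mul, h y]
    rw [show Cfsg.Inn S = (MulAut.conj : S →* MulAut S).range from rfl, ← Subgroup.index_ker, hker,
      Subgroup.index_mul_card]
  rw [hfib, hI, ← mul_assoc] at hsig
  have heq := Nat.eq_of_mul_eq_mul_right Nat.card_pos hsig
  obtain ⟨-, T, hT⟩ := isFullyAutomized_of_isFullyNormalized d.pgroup d.saturated (isFullyNormalized_top F)
  have hle : Cfsg.Inn S ≤ F.autGroup S := inn_le_autGroup F le_rfl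
  have hidx := T.not_dvd_index
  rw [hT, ← inn_eq_autInducedBy] at hidx
  apply hidx
  have h5 := Subgroup.index_mul_card ((Cfsg.Inn S).subgroupOf (F.autGroup S))
  rw [Nat.card_congr (Subgroup.subgroupOfEquivOfLe hle).toEquiv, ← heq] at h5
  rw [Nat.eq_of_mul_eq_mul_right Nat.card_pos h5]
  exact hO

/-- The character. -/
noncomputable def theta {P : Subgroup Ω} (φ : P →* Ω) : A :=
  open scoped Classical in if h : ∃ g, d.Inter φ g then d.V h.choose P else 1

theorem theta_eq {P : Subgroup Ω} {φ : P →* Ω} (hφ : φ ∈ F.Hom P) (hT : Tight F lam P) {g : d.Perms}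
    (hg : d.Inter φ g) : d.theta φ = d.V g P := by
  rw [theta, dif_pos ⟨g, hg⟩]
  set g₀ := (⟨g, hg⟩ : ∃ g, d.Inter φ g).choose
  have hg₀ : d.Inter φ g₀ := Exists.choose_spec _
  have hh : d.Inter P.subtype (g⁻¹ * g₀) := by
    intro x hx hφx
    show leftHom d.c ⟨x, hx⟩ * (g⁻¹ * g₀) = g⁻¹ * g₀ * leftHom d.c ⟨x, hx⟩
    have h1 := hg x hx (map_mem hφ x)
    have h2 := hg₀ x hx (map_mem hφ x)
    rw [mul_assoc g⁻¹ g₀, ← h2, ← mul_assoc, eq_inv_mul_iff_mul_eq, ← mul_assoc, ← mul_assoc, ← h1,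
      mul_inv_cancel_right]
  have h3 := d.V_mul (subtype_mem F (dom_le hφ)) hh (Subgroup.range_subtype P) g
  rw [mul_inv_cancel_left, d.V_centralizer (dom_le hφ) hT hh, mul_one] at h3
  exact h3

theorem theta_comp {P Q : Subgroup Ω} {φ : P →* Ω} {ψ : Q →* Ω} (hφ : φ ∈ F.Hom P)
    (hψ : ψ ∈ F.Hom Q) (hQ : ∀ x, φ x ∈ Q) (χ : P →* Ω) (hχ : ∀ x, χ x = ψ ⟨φ x, hQ x⟩)
    (hT : Tight F lam P) : d.theta χ = d.theta ψ * d.theta φ := by
  obtain ⟨g, hg⟩ := d.exists_inter hφ
  obtain ⟨h, hh⟩ := d.exists_inter hψ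
  have hχm : χ ∈ F.Hom P := mem_of_comp hφ hψ hQ χ hχ
  have hTr : Tight F lam φ.range := fun R hR => hT R (isConj_trans (isConj_of_mem hφ) hR)
  have hTQ : Tight F lam Q := by
    intro R hR z hz
    obtain ⟨e, he⟩ := exists_iso_of_isConj hR
    have hle : φ.range ≤ Q := by rintro _ ⟨x, rfl⟩; exact hQ x
    refine hTr _ (isConj_of_mem (restrict_mem (show R.subtype.comp e.toMonoidHom ∈ F.Hom Q from he) hle)) z
      ⟨z.2, Subgroup.mem_centralizer_iff.2 ?_⟩
    rintro _ ⟨x, rfl⟩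
    exact Subgroup.mem_centralizer_iff.1 hz.2 _ (e _).2
  have hχg : d.Inter χ (h * g) := fun x hx hχx => by
    have e1 := hg x hx (map_mem hφ x)
    have e2 := hh ⟨φ x, hQ x⟩ (map_mem hφ x) (map_mem hψ _)
    rw [show (⟨χ x, hχx⟩ : S) = ⟨ψ ⟨φ x, hQ x⟩, map_mem hψ _⟩ from Subtype.ext (hχ x),
      mul_assoc h g, ← e1, ← mul_assoc, e2, ← mul_assoc]
  rw [d.theta_eq hχm hT hχg, d.theta_eq hφ hT hg, d.theta_eq hψ hTQ hh, d.V_mul hφ hg rfl,
    d.V_eq_of_le (show φ.range ≤ Q by rintro _ ⟨x, rfl⟩; exact hQ x) hψ hh]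

theorem theta_restrict {P R : Subgroup Ω} (hPR : P ≤ R) {φ : R →* Ω} (hφ : φ ∈ F.Hom R)
    (hT : Tight F lam P) (χ : P →* Ω) (hχ : ∀ x : P, χ x = φ ⟨x, hPR x.2⟩) :
    d.theta χ = d.theta φ := by
  obtain ⟨g, hg⟩ := d.exists_inter hφ
  have hχg : d.Inter χ g := fun x hx hχx => by
    rw [show (⟨χ x, hχx⟩ : S) = ⟨φ ⟨x, hPR x.2⟩, map_mem hφ _⟩ from Subtype.ext (hχ x)]
    exact hg ⟨x, hPR x.2⟩ hx _
  have hTR : Tight F lam R := by
    intro R' hR z hz
    obtain ⟨e, he⟩ := exists_iso_of_isConj hR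
    refine hT _ (isConj_of_mem (restrict_mem (show R'.subtype.comp e.toMonoidHom ∈ F.Hom R from he) hPR)) z
      ⟨z.2, Subgroup.mem_centralizer_iff.2 ?_⟩
    rintro _ ⟨x, rfl⟩
    exact Subgroup.mem_centralizer_iff.1 hz.2 _ (e _).2
  rw [d.theta_eq (mem_of_restrict hφ hPR χ hχ) hT hχg, d.theta_eq hφ hTR hg, d.V_eq_of_le hPR hφ hg]

theorem theta_conj {P : Subgroup Ω} (hP : P ≤ S) (hT : Tight F lam P) (s : S) (χ : P →* Ω)
    (hχ : ∀ x : P, χ x = (s : Ω) * x * (s : Ω)⁻¹) : d.theta χ = lam s ^ Nat.card d.Orb := by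
  have hχg : d.Inter χ (leftHom d.c s) := fun x hx hχx => by
    rw [← map_mul, ← map_mul]
    exact congrArg _ (Subtype.ext (by
      show χ x * (s : Ω) = (s : Ω) * x
      rw [hχ, inv_mul_cancel_right]))
  rw [d.theta_eq (mem_of_eq_conj hP s.2 χ hχ) hT hχg, d.V_leftHom]
  exact pow_eq_pow_iff_modEq.2
    ((d.card_fixO_modEq P).symm.of_dvd (orderOf_dvd_of_pow_eq_one (d.exponent _)))

theorem exists_pow_eq (a : A) : ∃ k : ℕ, (a ^ k) ^ Nat.card d.Orb = a := by
  have hcop : (Nat.card d.Orb).Coprime (orderOf a) :=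
    Nat.Coprime.coprime_dvd_right (orderOf_dvd_of_pow_eq_one (d.exponent a))
      (d.prime.coprime_iff_not_dvd.2 d.not_dvd_card_orb).symm
  obtain ⟨k, hk⟩ := exists_pow_eq_self_of_coprime hcop
  exact ⟨k, by rw [← pow_mul, mul_comm, pow_mul, hk]⟩

end Data

end CfsgLib.Fusion.PPowerIndex
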