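import Cfsg.Agent.Lib.Fusion.PPowerIndex.Character
import Cfsg.Agent.Lib.Transfer.PResidual

/-!
# The subsystem of index `p` cut out by a stable character
-/

set_option autoImplicit false
set_option linter.unusedSectionVars false

namespace CfsgLib.Fusion.PPowerIndex

open Cfsg Cfsg.FusionSystem CfsgLib.Fusion

universe u v

variable {Ω : Type u} [Group Ω] {S : Subgroup Ω} {F : Cfsg.FusionSystem S} {p : ℕ}
variable {A : Type v} [CommGroup A] {lam : S →* A}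

/-- The kernel of a homomorphism on `S`, inside the ambient group. -/
def kerSub (lam : S →* A) : Subgroup Ω := lam.ker.map S.subtype

theorem mem_kerSub {x : Ω} : x ∈ kerSub lam ↔ ∃ h : x ∈ S, lam ⟨x, h⟩ = 1 := by
  constructor
  · rintro ⟨y, hy, rfl⟩
    exact ⟨y.2, hy⟩
  · rintro ⟨h, hx⟩
    exact ⟨⟨x, h⟩, hx, rfl⟩

theorem kerSub_le : kerSub lam ≤ S := Subgroup.map_subtype_le _

theorem isStable_of_mod {H : Subgroup Ω} (hH : H ≤ kerSub lam)
    (h : ∀ (P : Subgroup Ω) (φ : P →* Ω), φ ∈ F.Hom P →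
      ∃ s ∈ S, ∀ x : P, (s * (x : Ω) * s⁻¹)⁻¹ * φ x ∈ H) : IsStable F lam := by
  intro P φ hφ x
  obtain ⟨s, hs, hx⟩ := h P φ hφ
  obtain ⟨_, h1⟩ := mem_kerSub.1 (hH (hx x))
  have e : (⟨φ x, map_mem hφ x⟩ : S) = ⟨s, hs⟩ * ⟨x, dom_le hφ x.2⟩ * ⟨s, hs⟩⁻¹ *
      ⟨(s * (x : Ω) * s⁻¹)⁻¹ * φ x, ‹_›⟩ := Subtype.ext (by
    show φ x = s * x * s⁻¹ * ((s * (x : Ω) * s⁻¹)⁻¹ * φ x)
    rw [mul_inv_cancel_left])
  rw [e, map_mul, map_mul, map_mul, h1, mul_one, map_inv, mul_comm (lam _), mul_assoc,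
    mul_inv_cancel, mul_one]

theorem Tight.of_isConj {P Q : Subgroup Ω} (hT : Tight F lam P) (h : F.IsConj P Q) : Tight F lam Q :=
  fun R hR => hT R (isConj_trans h hR)

theorem Tight.mono {P R : Subgroup Ω} (hT : Tight F lam P) (hPR : P ≤ R) : Tight F lam R := by
  intro R' hR z hz
  obtain ⟨e, he⟩ := exists_iso_of_isConj hR
  refine hT _ (isConj_of_mem (restrict_mem (show R'.subtype.comp e.toMonoidHom ∈ F.Hom R from he) hPR)) z
    ⟨z.2, Subgroup.mem_centralizer_iff.2 ?_⟩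
  rintro _ ⟨x, rfl⟩
  exact Subgroup.mem_centralizer_iff.1 hz.2 _ (e _).2

theorem isFullyNormalized_conj [Finite S] {Q : Subgroup Ω} (hQ : F.IsFullyNormalized Q) {s : Ω}
    (hs : s ∈ S) : F.IsFullyNormalized (conjHom Q s).range := by
  have hm : conjHom Q s ∈ F.Hom Q := F.conj_mem hQ.1 hs
  have hc : F.IsConj Q (conjHom Q s).range := isConj_of_mem hm
  refine ⟨isConj_le_right hc, fun R hR => (hQ.2 R (isConj_trans hc hR)).trans ?_⟩
  have : Finite (normalizerIn S (conjHom Q s).range) := finite_of_le (normalizerIn_le _ _)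
  refine Nat.card_le_card_of_injective (fun x : normalizerIn S Q =>
    (⟨s * x * s⁻¹, S.mul_mem (S.mul_mem hs x.2.1) (S.inv_mem hs), ?_⟩ :
      normalizerIn S (conjHom Q s).range)) fun a b h => Subtype.ext
        (mul_left_cancel (mul_right_cancel (Subtype.ext_iff.1 h)))
  refine Subgroup.mem_normalizer_iff.2 fun y => ?_
  have hrange : ∀ y, y ∈ (conjHom Q s).range ↔ s⁻¹ * y * s ∈ Q := fun y => by
    constructor
    · rintro ⟨q, rfl⟩
      rw [conjHom_apply]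
      simp [mul_assoc]
    · intro h
      exact ⟨⟨_, h⟩, by rw [conjHom_apply]; simp [mul_assoc]⟩
  rw [hrange, hrange, Subgroup.mem_normalizer_iff.1 x.2.2 (s⁻¹ * y * s)]
  simp [mul_assoc]

namespace Data

variable [Finite S] (d : Data F p lam)

theorem theta_subtype {P : Subgroup Ω} (hP : P ≤ S) (hT : Tight F lam P) :
    d.theta P.subtype = 1 := by
  rw [d.theta_conj hP hT 1 P.subtype (fun x => by simp), map_one, one_pow]

theorem theta_conjComp {P : Subgroup Ω} {φ : P →* Ω} (hφ : φ ∈ F.Hom P) (hT : Tight F lam P)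
    {s : Ω} (hs : s ∈ S) :
    d.theta ((MulAut.conj s).toMonoidHom.comp φ) = lam ⟨s, hs⟩ ^ Nat.card d.Orb * d.theta φ := by
  have hr := range_le hφ
  rw [d.theta_comp hφ (F.conj_mem hr hs) (fun x => ⟨x, rfl⟩) _ (fun x => rfl) hT,
    d.theta_conj hr (hT.of_isConj (isConj_of_mem hφ)) ⟨s, hs⟩ (conjHom φ.range s) fun x => rfl]

theorem eq_one_of_pow {a : A} (h : a ^ Nat.card d.Orb = 1) : a = 1 := by
  obtain ⟨k, hk⟩ := d.exists_pow_eq a
  rw [← hk, ← pow_mul, mul_comm, pow_mul, h, one_pow]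

/-- The subsystem of the kernel. -/
def system : Cfsg.FusionSystem (kerSub lam) where
  Hom P := {φ | φ ∈ F.Hom P ∧ P ≤ kerSub lam ∧ (Tight F lam P → d.theta φ = 1)}
  le_of_mem := by
    rintro P φ ⟨hφ, hP, -⟩
    refine ⟨hP, fun x => mem_kerSub.2 ⟨map_mem hφ x, ?_⟩⟩
    obtain ⟨h, hx⟩ := mem_kerSub.1 (hP x.2)
    rw [d.stable P φ hφ x]
    exact hx
  injective_of_mem h := F.injective_of_mem h.1
  conj_mem := by
    intro P g hP hg
    obtain ⟨h, hgl⟩ := mem_kerSub.1 hg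
    refine ⟨F.conj_mem (hP.trans kerSub_le) h, hP, fun hT => ?_⟩
    rw [d.theta_conj (hP.trans kerSub_le) hT ⟨g, h⟩ _ fun x => rfl, hgl, one_pow]
  comp_mem := by
    rintro P R φ ψ ⟨hφ, hP, h1⟩ ⟨hψ, -, h2⟩ h
    refine ⟨F.comp_mem hφ hψ h, hP, fun hT => ?_⟩
    have hR : Tight F lam R := (hT.of_isConj (isConj_of_mem hφ)).mono
      (by rintro _ ⟨x, rfl⟩; exact h x)
    rw [d.theta_comp hφ hψ h _ (fun x => rfl) hT, h1 hT, h2 hR, one_mul]
  inv_mem := by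
    rintro P φ ⟨hφ, hP, h1⟩
    obtain ⟨ψ, hψ, hinv⟩ := F.inv_mem hφ
    refine ⟨ψ, ⟨hψ, ?_, fun hT => ?_⟩, hinv⟩
    · rintro _ ⟨x, rfl⟩
      refine mem_kerSub.2 ⟨map_mem hφ x, ?_⟩
      obtain ⟨h, hx⟩ := mem_kerSub.1 (hP x.2)
      rw [d.stable P φ hφ x]
      exact hx
    · have hTP : Tight F lam P := hT.of_isConj (isConj_symm (isConj_of_mem hφ))
      have h3 := d.theta_comp hφ hψ (fun x => ⟨x, rfl⟩) P.subtype (fun x => (hinv x).symm) hTP
      rw [d.theta_subtype (hP.trans kerSub_le) hTP, h1 hTP, mul_one] at h3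
      exact h3.symm

theorem mem_system {P : Subgroup Ω} {φ : P →* Ω} :
    φ ∈ d.system.Hom P ↔ φ ∈ F.Hom P ∧ P ≤ kerSub lam ∧ (Tight F lam P → d.theta φ = 1) := Iff.rfl

/-- The character on an automorphism group. -/
noncomputable def thetaHom {Q : Subgroup Ω} (hQ : Q ≤ S) (hT : Tight F lam Q) : F.autGroup Q →* A where
  toFun α := d.theta (Q.subtype.comp (α : MulAut Q).toMonoidHom)
  map_one' := d.theta_subtype hQ hT
  map_mul' α β := d.theta_comp ((mem_autGroup_iff_hom hQ).1 β.2) ((mem_autGroup_iff_hom hQ).1 α.2)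
    (fun x => ((β : MulAut Q) x).2) _ (fun _ => rfl) hT

/-- Every map is a conjugation after a map of the subsystem. -/
theorem exists_conj_system (hsurj : Function.Surjective lam) {P : Subgroup Ω} {φ : P →* Ω}
    (hφ : φ ∈ F.Hom P) (hP : P ≤ kerSub lam) :
    ∃ s ∈ S, (MulAut.conj s).toMonoidHom.comp φ ∈ d.system.Hom P := by
  classical
  by_cases hT : Tight F lam P
  · obtain ⟨k, hk⟩ := d.exists_pow_eq (d.theta φ)⁻¹
    obtain ⟨⟨s, hs⟩, hsk⟩ := hsurj ((d.theta φ)⁻¹ ^ k)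
    refine ⟨s, hs, conj_comp_mem hφ hs, hP, fun _ => ?_⟩
    rw [d.theta_conjComp hφ hT hs, hsk, hk, inv_mul_cancel]
  · exact ⟨1, S.one_mem, conj_comp_mem hφ S.one_mem, hP, fun h => absurd h hT⟩

include d in
theorem exists_centralizer_notMem {Q : Subgroup Ω} (hQ : F.IsReceptive Q) (hT : ¬ Tight F lam Q) :
    ∃ z : S, (z : Ω) ∈ centralizerIn S Q ∧ lam z ≠ 1 := by
  unfold Tight at hT
  push_neg at hT
  obtain ⟨R, hR, z, hz, hne⟩ := hT
  obtain ⟨φ, hφ, hr⟩ := isConj_symm hR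
  obtain ⟨ψ, hψ, hag⟩ := hQ.2 R φ hφ hr
  have hzN : (z : Ω) ∈ extender S R φ := centralizerIn_le_extender φ hz
  refine ⟨⟨ψ ⟨z, hzN⟩, map_mem hψ _⟩, ⟨map_mem hψ _, Subgroup.mem_centralizer_iff.2 ?_⟩, ?_⟩
  · intro y hy
    obtain ⟨x, rfl⟩ : y ∈ φ.range := hr.symm ▸ hy
    have hxN := le_extender (dom_le hφ) (map_mem hφ) x.2
    rw [← hag x x.2 hxN, ← map_mul, ← map_mul]
    exact congrArg ψ (Subtype.ext (Subgroup.mem_centralizer_iff.1 hz.2 x x.2))
  · rw [d.stable _ ψ hψ ⟨z, hzN⟩]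
    exact hne

theorem autInducedBy_ker {Q : Subgroup Ω} (hcard : Nat.card A = p) (hFA : F.IsReceptive Q)
    (hQ : Q ≤ kerSub lam) {u α : MulAut Q} (hu : u ∈ d.system.autGroup Q) (hα : α ∈ F.autGroup Q)
    (h : α * u * α⁻¹ ∈ autInducedBy S Q) : α * u * α⁻¹ ∈ autInducedBy (kerSub lam) Q := by
  classical
  obtain ⟨g, hg, hgS, heq⟩ := exists_eq_conjAut h
  by_cases hT : Tight F lam Q
  · have huE := (mem_autGroup_iff_hom hQ).1 hu
    have huF : u ∈ F.autGroup Q := (mem_autGroup_iff_hom hFA.1).2 huE.1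
    have h1 : d.thetaHom hFA.1 hT (⟨α, hα⟩ * ⟨u, huF⟩ * ⟨α, hα⟩⁻¹) = 1 := by
      rw [map_mul, map_mul, map_inv, mul_comm (d.thetaHom hFA.1 hT _), mul_assoc, mul_inv_cancel,
        mul_one]
      exact huE.2.2 hT
    have h2 : d.theta (Q.subtype.comp (α * u * α⁻¹).toMonoidHom) = 1 := h1
    rw [d.theta_conj hFA.1 hT ⟨g, hgS⟩ _ (fun x => by rw [heq]; rfl)] at h2
    exact mem_autInducedBy_iff.2 ⟨g, mem_kerSub.2 ⟨hgS, d.eq_one_of_pow h2⟩,
      fun x => by rw [heq]; rfl⟩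
  · obtain ⟨z, hz, hzne⟩ := d.exists_centralizer_notMem hFA hT
    have : Fact p.Prime := ⟨d.prime⟩
    obtain ⟨k, hk⟩ := mem_powers_of_prime_card (g' := lam ⟨g, hgS⟩) hcard hzne
    have hk' : lam z ^ k = lam ⟨g, hgS⟩ := hk
    have hzk : ((z ^ k : S) : Ω) ∈ centralizerIn S Q := by
      rw [SubmonoidClass.coe_pow]; exact pow_mem hz k
    refine mem_autInducedBy_iff.2 ⟨g * ((z ^ k : S) : Ω)⁻¹,
      mem_kerSub.2 ⟨S.mul_mem hgS (S.inv_mem (z ^ k).2), ?_⟩, fun x => ?_⟩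
    · show lam (⟨g, hgS⟩ * (z ^ k)⁻¹) = 1
      rw [map_mul, map_inv, map_pow, hk', mul_inv_cancel]
    · rw [heq]
      have hc : ((z ^ k : S) : Ω)⁻¹ * (x : Ω) = (x : Ω) * ((z ^ k : S) : Ω)⁻¹ := by
        have hc0 : Commute (x : Ω) ((z ^ k : S) : Ω) := Subgroup.mem_centralizer_iff.1 hzk.2 x x.2
        exact hc0.inv_right.eq.symm
      show g * (x : Ω) * g⁻¹ = _
      rw [mul_inv_rev, inv_inv, mul_assoc g _ (x : Ω), hc]
      simp [mul_assoc]

theorem system_fullyAutomized (hcard : Nat.card A = p) {Q : Subgroup Ω} (hQn : F.IsFullyNormalized Q)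
    (hQ : Q ≤ kerSub lam) : d.system.IsFullyAutomized p Q := by
  have : Fact p.Prime := ⟨d.prime⟩
  have hrec := isReceptive_of_isFullyNormalized d.pgroup d.saturated hQn
  obtain ⟨-, T, hT⟩ := isFullyAutomized_of_isFullyNormalized d.pgroup d.saturated hQn
  have : Finite Q := finite_of_le hQn.1
  have : Finite (MulAut Q) := finite_mulAut
  set AM := autInducedBy (kerSub lam) Q
  have hAM : IsPGroup p AM := isPGroup_autInducedBy (d.pgroup.to_le kerSub_le) Q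
  refine ⟨hQ, ⟨AM.subgroupOf (d.system.autGroup Q), hAM.comap_subtype, fun {U} hU hle => ?_⟩, rfl⟩
  have hEF : ∀ u : U, ((u : d.system.autGroup Q) : MulAut Q) ∈ F.autGroup Q := fun u =>
    (mem_autGroup_iff_hom hQn.1).2 ((mem_autGroup_iff_hom hQ).1 (u : d.system.autGroup Q).2).1
  let f : U →* F.autGroup Q :=
    { toFun := fun u => ⟨_, hEF u⟩
      map_one' := rfl
      map_mul' := fun _ _ => rfl }
  have hfU : IsPGroup p f.range := hU.of_surjective f.rangeRestrict f.rangeRestrict_surjective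
  obtain ⟨β, hβ⟩ := exists_conj_le_sylow T hfU
  have hin : ∀ u : U, (β : MulAut Q) * (f u : MulAut Q) * (β : MulAut Q)⁻¹ ∈ AM := fun u => by
    have h1 := hβ (f u) ⟨u, rfl⟩
    rw [hT, Subgroup.mem_subgroupOf] at h1
    exact d.autInducedBy_ker hcard hrec hQ (u : d.system.autGroup Q).2 β.2 h1
  refine (Subgroup.eq_of_le_of_card_ge hle ?_).symm
  have hc : Nat.card (AM.subgroupOf (d.system.autGroup Q)) = Nat.card AM :=
    Nat.card_congr (Subgroup.subgroupOfEquivOfLe (autInducedBy_le_autGroup d.system hQ)).toEquiv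
  rw [hc]
  exact Nat.card_le_card_of_injective (fun u => (⟨_, hin u⟩ : AM)) fun a b h =>
    Subtype.ext (Subtype.ext (mul_left_cancel (mul_right_cancel (Subtype.ext_iff.1 h))))

theorem system_receptive (hcard : Nat.card A = p) {Q : Subgroup Ω} (hQn : F.IsFullyNormalized Q)
    (hQ : Q ≤ kerSub lam) : d.system.IsReceptive Q := by
  classical
  have : Fact p.Prime := ⟨d.prime⟩
  have hrec := isReceptive_of_isFullyNormalized d.pgroup d.saturated hQn
  refine ⟨hQ, fun R φ hφ hr => ?_⟩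
  obtain ⟨ψ, hψ, hag⟩ := hrec.2 R φ hφ.1 hr
  set N := extender (kerSub lam) R φ
  have hN : N ≤ extender S R φ := fun g hg => by
    obtain ⟨h1, h2, h, hh, h3⟩ := mem_extender_iff.1 hg
    exact mem_extender_iff.2 ⟨kerSub_le h1, h2, h, kerSub_le hh, h3⟩
  have hNM : N ≤ kerSub lam := (extender_le_normalizerIn φ).trans (normalizerIn_le _ _)
  have hRN : R ≤ N := le_extender hφ.2.1 fun x => (d.system.le_of_mem hφ).2 x
  set ψN := ψ.comp (Subgroup.inclusion hN) with hψNdef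
  have hψN : ψN ∈ F.Hom N := restrict_mem hψ hN
  have hag' : ∀ (x : Ω) (hR : x ∈ R) (hx : x ∈ N), ψN ⟨x, hx⟩ = φ ⟨x, hR⟩ := fun x hR hx =>
    hag x hR (hN hx)
  by_cases hTN : Tight F lam N
  swap
  · exact ⟨ψN, ⟨hψN, hNM, fun h => absurd h hTN⟩, hag'⟩
  by_cases hTR : Tight F lam R
  · refine ⟨ψN, ⟨hψN, hNM, fun _ => ?_⟩, hag'⟩
    rw [← d.theta_restrict hRN hψN hTR φ fun x => (hag' x x.2 _).symm]
    exact hφ.2.2 hTR
  have hTQ : ¬ Tight F lam Q := fun h => hTR (h.of_isConj (isConj_symm ⟨φ, hφ.1, hr⟩))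
  obtain ⟨z, hz, hzne⟩ := d.exists_centralizer_notMem hrec hTQ
  obtain ⟨a, ha⟩ := d.exists_pow_eq (d.theta ψN)⁻¹
  obtain ⟨k, hk⟩ := mem_powers_of_prime_card (g' := (d.theta ψN)⁻¹ ^ a) hcard hzne
  have hk' : lam z ^ k = (d.theta ψN)⁻¹ ^ a := hk
  refine ⟨(MulAut.conj ((z ^ k : S) : Ω)).toMonoidHom.comp ψN, ⟨conj_comp_mem hψN (z ^ k).2, hNM,
    fun _ => ?_⟩, fun x hR hx => ?_⟩
  · rw [d.theta_conjComp hψN hTN (z ^ k).2]
    show lam (z ^ k) ^ _ * _ = 1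
    rw [map_pow, hk', ha, inv_mul_cancel]
  · show ((z ^ k : S) : Ω) * ψN ⟨x, hx⟩ * ((z ^ k : S) : Ω)⁻¹ = φ ⟨x, hR⟩
    rw [hag' x hR hx, ← Subgroup.mem_centralizer_iff.1 (show ((z ^ k : S) : Ω) ∈
      Subgroup.centralizer (Q : Set Ω) by rw [SubmonoidClass.coe_pow]; exact pow_mem hz.2 k)
      (φ ⟨x, hR⟩) (hr ▸ ⟨_, rfl⟩), mul_inv_cancel_right]

/-- The subsystem of the kernel is saturated. -/
theorem system_saturated (hcard : Nat.card A = p) (hsurj : Function.Surjective lam) :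
    d.system.IsSaturated p := by
  have : Fact p.Prime := ⟨d.prime⟩
  intro P hP
  obtain ⟨Q₀, ⟨φ₀, hφ₀, hr⟩, hQ₀⟩ := exists_isFullyNormalized F (hP.trans kerSub_le)
  obtain ⟨s, hs, hmem⟩ := d.exists_conj_system hsurj hφ₀ hP
  set φ := (MulAut.conj s).toMonoidHom.comp φ₀ with hφdef
  have hrange : φ.range = (conjHom Q₀ s).range := by
    subst hr
    ext y
    constructor
    · rintro ⟨x, rfl⟩
      exact ⟨⟨φ₀ x, x, rfl⟩, rfl⟩
    · rintro ⟨⟨_, x, rfl⟩, rfl⟩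
      exact ⟨x, rfl⟩
  have hn : F.IsFullyNormalized φ.range := hrange ▸ isFullyNormalized_conj hQ₀ hs
  have hle : φ.range ≤ kerSub lam := by
    rintro _ ⟨x, rfl⟩
    exact (d.system.le_of_mem hmem).2 x
  exact ⟨φ.range, ⟨φ, hmem, rfl⟩, d.system_fullyAutomized hcard hn hle,
    d.system_receptive hcard hn hle⟩

/-- The subsystem of the kernel has `p`-power index. -/
theorem system_pPowerIndex (hker : F.hyperfocalSubgroup p ≤ kerSub lam) :
    d.system.HasPPowerIndexIn F p := by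
  classical
  have : Fact p.Prime := ⟨d.prime⟩
  refine ⟨fun P φ hφ => hφ.1, hker, fun P hP => ?_⟩
  rintro _ ⟨α, hα, rfl⟩
  have hPS := hP.trans kerSub_le
  refine (mem_autGroup_iff_hom hP).2 ⟨(mem_autGroup_iff_hom hPS).1 α.2, hP, fun hT => ?_⟩
  exact CfsgLib.Transfer.pResidual_le_ker_of_isPGroup
    (H := A) (isPGroup_iff_pow_pow_eq_one.2 fun a => ⟨1, by rw [pow_one]; exact d.exponent a⟩)
    (d.thetaHom hPS hT) hα

end Data

end CfsgLib.Fusion.PPowerIndex
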